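import Mathlib.AlgebraicGeometry.IdealSheaf.Functorial
import Mathlib.AlgebraicGeometry.AffineScheme

/-!
# Pullback of ideal sheaves on affine opens
-/

set_option autoImplicit false

universe u

open CategoryTheory AlgebraicGeometry TopologicalSpace

namespace Groth.Agent.IdealSh.Comap

variable {X Y : Scheme.{u}}

lemma appLE_comp_appIso {j : X ⟶ Y} [IsOpenImmersion j] {U : Y.Opens} {W : X.Opens}
    (e : W ≤ j ⁻¹ᵁ U) (h : j ''ᵁ W ≤ U) :
    j.appLE U W e = Y.presheaf.map (homOfLE h).op ≫ (j.appIso W).hom := by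
  rw [← Iso.comp_inv_eq, Scheme.Hom.appLE_appIso_inv]

/-- Pullback along an open immersion, computed by restriction. -/
lemma ideal_comap_openImmersion (I : Y.IdealSheafData) (j : X ⟶ Y) [IsOpenImmersion j]
    (U : Y.affineOpens) (W : X.affineOpens) (e : W.1 ≤ j ⁻¹ᵁ U.1) :
    (I.comap j).ideal W = (I.ideal U).map (j.appLE U W e).hom := by
  have h : (⟨j ''ᵁ W, W.2.image_of_isOpenImmersion j⟩ : Y.affineOpens) ≤ U :=
    (j.image_mono e).trans (j.image_preimage_le _)
  rw [Scheme.IdealSheafData.ideal_comap_of_isOpenImmersion,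
    appLE_comp_appIso e h, CommRingCat.hom_comp, ← Ideal.map_map]
  erw [I.map_ideal h]
  exact (Ideal.map_comap_of_equiv (j.appIso W.1).commRingCatIsoToRingEquiv).symm

lemma ideal_comap_of_isAffine [IsAffine X] [IsAffine Y] (I : Y.IdealSheafData) (f : X ⟶ Y) :
    (I.comap f).ideal ⟨⊤, isAffineOpen_top X⟩ =
      (I.ideal ⟨⊤, isAffineOpen_top Y⟩).map f.appTop.hom := by
  have key : ∀ J : X.IdealSheafData, I.comap f ≤ J ↔
      (I.ideal ⟨⊤, isAffineOpen_top Y⟩).map f.appTop.hom ≤ J.ideal ⟨⊤, isAffineOpen_top X⟩ := by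
    intro J
    rw [← Scheme.IdealSheafData.le_map_iff_comap_le, Ideal.map_le_iff_le_comap]
    have h : (J.map f).ideal ⟨⊤, isAffineOpen_top Y⟩ =
        (J.ideal ⟨⊤, isAffineOpen_top X⟩).comap f.appTop.hom :=
      Scheme.IdealSheafData.ideal_map J f ⟨⊤, isAffineOpen_top Y⟩ (isAffineOpen_top X)
    exact ⟨fun H => (H _).trans h.le,
      fun H => Scheme.IdealSheafData.le_of_isAffine (H.trans h.ge)⟩
  apply le_antisymm
  · have := (key (Scheme.IdealSheafData.ofIdealTop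
      ((I.ideal ⟨⊤, isAffineOpen_top Y⟩).map f.appTop.hom))).mpr (by simp)
    exact (this _).trans (by simp)
  · exact (key _).mp le_rfl

/-- The pulled back ideal sheaf on an affine open is the extended ideal. -/
theorem ideal_comap (I : Y.IdealSheafData) (f : X ⟶ Y) (U : Y.affineOpens) (V : X.affineOpens)
    (e : V.1 ≤ f ⁻¹ᵁ U.1) :
    (I.comap f).ideal V = (I.ideal U).map (f.appLE U V e).hom := by
  have : IsAffine (U.1 : Scheme.{u}) := U.2
  have : IsAffine (V.1 : Scheme.{u}) := V.2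
  have hw : f.resLE U.1 V.1 e ≫ U.1.ι = V.1.ι ≫ f := Scheme.Hom.resLE_comp_ι _ _
  have h1 := ideal_comap_openImmersion (I.comap f) V.1.ι V ⟨⊤, isAffineOpen_top _⟩
    V.1.ι_preimage_self.ge
  rw [← Scheme.IdealSheafData.comap_comp, ← hw, Scheme.IdealSheafData.comap_comp,
    ideal_comap_of_isAffine,
    ideal_comap_openImmersion I U.1.ι U ⟨⊤, isAffineOpen_top _⟩ U.1.ι_preimage_self.ge,
    Ideal.map_map, ← CommRingCat.hom_comp] at h1
  have h2 : U.1.ι.appLE U.1 ⊤ U.1.ι_preimage_self.ge ≫ (f.resLE U.1 V.1 e).appTop =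
      f.appLE U.1 V.1 e ≫ V.1.ι.appLE V.1 ⊤ V.1.ι_preimage_self.ge := by
    have h0 : (f.resLE U.1 V.1 e).appTop = (f.resLE U.1 V.1 e).appLE ⊤ ⊤ le_rfl :=
      Scheme.Hom.app_eq_appLE _
    rw [h0, Scheme.Hom.appLE_comp_appLE, Scheme.Hom.appLE_comp_appLE]
    simp only [hw]
  rw [h2, CommRingCat.hom_comp, ← Ideal.map_map] at h1
  have hbij : Function.Bijective (V.1.ι.appLE V.1 ⊤ V.1.ι_preimage_self.ge).hom :=
    ConcreteCategory.bijective_of_isIso _
  have h3 := congrArg (Ideal.comap (V.1.ι.appLE V.1 ⊤ V.1.ι_preimage_self.ge).hom) h1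
  rwa [Ideal.comap_map_of_bijective _ hbij, Ideal.comap_map_of_bijective _ hbij, eq_comm] at h3

lemma ideal_comap_app (I : Y.IdealSheafData) (f : X ⟶ Y) (U : Y.affineOpens)
    (hV : IsAffineOpen (f ⁻¹ᵁ U.1)) :
    (I.comap f).ideal ⟨_, hV⟩ = (I.ideal U).map (f.app U).hom := by
  rw [ideal_comap I f U ⟨_, hV⟩ le_rfl, Scheme.Hom.app_eq_appLE]

lemma ideal_comap_span_singleton (I : Y.IdealSheafData) (f : X ⟶ Y) (U : Y.affineOpens)
    (V : X.affineOpens) (e : V.1 ≤ f ⁻¹ᵁ U.1) {a : Γ(Y, U.1)} (ha : I.ideal U = Ideal.span {a}) :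
    (I.comap f).ideal V = Ideal.span {(f.appLE U V e).hom a} := by
  rw [ideal_comap I f U V e, ha, Ideal.map_span, Set.image_singleton]

/-- An affine open around `x` in an open `W`. -/
lemma exists_affine_le (x : X) (W : X.Opens) (hx : x ∈ W) :
    ∃ V : X.affineOpens, x ∈ V.1 ∧ V.1 ≤ W := by
  obtain ⟨_, ⟨V, hV, rfl⟩, hxV, hle⟩ :=
    X.isBasis_affineOpens.exists_subset_of_mem_open (a := x) hx W.2
  exact ⟨⟨V, hV⟩, hxV, hle⟩

/-- Affine opens mapping into affine opens cover. -/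
lemma exists_affine_pair (f : X ⟶ Y) (x : X) :
    ∃ (U : Y.affineOpens) (V : X.affineOpens), x ∈ V.1 ∧ V.1 ≤ f ⁻¹ᵁ U.1 := by
  obtain ⟨U, hU, -⟩ := exists_affine_le (f x) ⊤ trivial
  obtain ⟨V, hV, hle⟩ := exists_affine_le x (f ⁻¹ᵁ U.1) hU
  exact ⟨U, V, hV, hle⟩

/-- Two ideal sheaves agree if they agree on affine opens arbitrarily near every point. -/
lemma ext_of_forall_exists (I J : X.IdealSheafData)
    (H : ∀ x : X, ∃ U : X.affineOpens, x ∈ U.1 ∧ I.ideal U = J.ideal U) : I = J := by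
  choose U hU h using H
  exact Scheme.IdealSheafData.ext_of_iSup_eq_top U
    (top_unique fun x _ => Opens.mem_iSup.mpr ⟨x, hU x⟩) h

lemma comap_mul (I J : Y.IdealSheafData) (f : X ⟶ Y) :
    (I * J).comap f = I.comap f * J.comap f := by
  refine ext_of_forall_exists _ _ fun x => ?_
  obtain ⟨U, V, hx, e⟩ := exists_affine_pair f x
  refine ⟨V, hx, ?_⟩
  simp only [Scheme.IdealSheafData.ideal_mul, Pi.mul_apply, ideal_comap _ f U V e, Ideal.map_mul]

lemma comap_pow (I : Y.IdealSheafData) (f : X ⟶ Y) (n : ℕ) :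
    (I ^ n).comap f = I.comap f ^ n := by
  refine ext_of_forall_exists _ _ fun x => ?_
  obtain ⟨U, V, hx, e⟩ := exists_affine_pair f x
  refine ⟨V, hx, ?_⟩
  simp only [Scheme.IdealSheafData.ideal_pow, Pi.pow_apply, ideal_comap _ f U V e, Ideal.map_pow]

/-- Pullback along an open containing nothing of the support is trivial. -/
lemma comap_eq_top_of_disjoint (I : Y.IdealSheafData) (f : X ⟶ Y)
    (h : Disjoint (Set.range f) (I.support : Set Y)) : I.comap f = ⊤ := by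
  rw [← Scheme.IdealSheafData.support_eq_bot_iff, Scheme.IdealSheafData.support_comap]
  ext x
  simp only [Closeds.coe_preimage, Set.mem_preimage, Closeds.coe_bot, Set.mem_empty_iff_false,
    iff_false]
  exact fun hx => h.le_bot ⟨⟨x, rfl⟩, hx⟩

lemma ofIdealTop_comap [IsAffine Y] (I : Ideal Γ(Y, ⊤)) (f : X ⟶ Y) (V : X.affineOpens) :
    ((Scheme.IdealSheafData.ofIdealTop I).comap f).ideal V =
      I.map (f.appLE ⊤ V le_top).hom := by
  rw [ideal_comap _ f ⟨⊤, isAffineOpen_top Y⟩ V le_top]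
  simp

end Groth.Agent.IdealSh.Comap
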