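import Groth.Prelude.Def_BlowUp2
import Groth.Agent.IdealSh.Comap
import Mathlib.AlgebraicGeometry.Morphisms.Flat
import Mathlib.RingTheory.Flat.Basic

/-!
# Effective Cartier ideal sheaves
-/

set_option autoImplicit false
set_option maxHeartbeats 400000

universe u

open CategoryTheory AlgebraicGeometry TopologicalSpace
open Groth.Agent.IdealSh.Comap

namespace Groth.Agent.IdealSh.EffCartier

lemma map_mem_nonZeroDivisors_of_flat {R S : Type u} [CommRing R] [CommRing S] (φ : R →+* S)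
    (hφ : φ.Flat) {r : R} (hr : r ∈ nonZeroDivisors R) : φ r ∈ nonZeroDivisors S := by
  algebraize [φ]
  rw [← isRegular_iff_mem_nonZeroDivisors, ← isLeftRegular_iff_isRegular] at hr ⊢
  exact IsSMulRegular.of_flat (S := S) hr

variable {X Y : Scheme.{u}}

lemma map_res_mem_nonZeroDivisors {U V : X.affineOpens} (h : V.1 ≤ U.1) {a : Γ(X, U.1)}
    (ha : a ∈ nonZeroDivisors Γ(X, U.1)) :
    X.presheaf.map (homOfLE h).op a ∈ nonZeroDivisors Γ(X, V.1) := by
  have := map_mem_nonZeroDivisors_of_flat _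
    (Scheme.Hom.flat_appLE (𝟙 X) U.2 V.2 (e := h)) ha
  simpa [Scheme.Hom.appLE, CommRingCat.hom_id] using! this

/-- A local equation restricts to every smaller affine open. -/
lemma restrict_eq {𝓘 : X.IdealSheafData} {U V : X.affineOpens} (h : V.1 ≤ U.1) {a : Γ(X, U.1)}
    (ha : 𝓘.ideal U = Ideal.span {a}) :
    𝓘.ideal V = Ideal.span {X.presheaf.map (homOfLE h).op a} := by
  have := 𝓘.map_ideal (U := V) (V := U) h
  rw [ha, Ideal.map_span, Set.image_singleton] at this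
  exact this.symm

/-- Equations for an effective Cartier ideal may be found inside any given neighbourhood. -/
lemma exists_equation {𝓘 : X.IdealSheafData} (h𝓘 : BlowUp.IsEffCartierIdeal 𝓘) (x : X)
    (W : X.Opens) (hx : x ∈ W) :
    ∃ U : X.affineOpens, x ∈ U.1 ∧ U.1 ≤ W ∧ ∃ f : Γ(X, U.1), f ∈ nonZeroDivisors Γ(X, U.1) ∧
      𝓘.ideal U = Ideal.span {f} := by
  obtain ⟨U, hxU, f, hf, he⟩ := h𝓘 x
  obtain ⟨V, hxV, hle⟩ := exists_affine_le x (U.1 ⊓ W) ⟨hxU, hx⟩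
  exact ⟨V, hxV, hle.trans inf_le_right, _, map_res_mem_nonZeroDivisors (hle.trans inf_le_left) hf,
    restrict_eq _ he⟩

/-- Equations for two effective Cartier ideals on a common affine open. -/
lemma exists_equation₂ {𝓘 𝓙 : X.IdealSheafData} (h𝓘 : BlowUp.IsEffCartierIdeal 𝓘)
    (h𝓙 : BlowUp.IsEffCartierIdeal 𝓙) (x : X) (W : X.Opens) (hx : x ∈ W) :
    ∃ U : X.affineOpens, x ∈ U.1 ∧ U.1 ≤ W ∧ ∃ f g : Γ(X, U.1),
      f ∈ nonZeroDivisors Γ(X, U.1) ∧ g ∈ nonZeroDivisors Γ(X, U.1) ∧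
      𝓘.ideal U = Ideal.span {f} ∧ 𝓙.ideal U = Ideal.span {g} := by
  obtain ⟨U, hxU, hUW, f, hf, he⟩ := exists_equation h𝓘 x W hx
  obtain ⟨V, hxV, hVU, g, hg, he'⟩ := exists_equation h𝓙 x U.1 hxU
  exact ⟨V, hxV, hVU.trans hUW, _, g, map_res_mem_nonZeroDivisors hVU hf, hg,
    restrict_eq hVU he, he'⟩

lemma top : BlowUp.IsEffCartierIdeal (⊤ : X.IdealSheafData) := fun x => by
  obtain ⟨U, hU, -⟩ := exists_affine_le x ⊤ trivial
  exact ⟨U, hU, 1, Submonoid.one_mem _, by simp⟩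

lemma mul {𝓘 𝓙 : X.IdealSheafData} (h𝓘 : BlowUp.IsEffCartierIdeal 𝓘)
    (h𝓙 : BlowUp.IsEffCartierIdeal 𝓙) : BlowUp.IsEffCartierIdeal (𝓘 * 𝓙) := fun x => by
  obtain ⟨U, hx, -, f, g, hf, hg, e, e'⟩ := exists_equation₂ h𝓘 h𝓙 x ⊤ trivial
  refine ⟨U, hx, f * g, Submonoid.mul_mem _ hf hg, ?_⟩
  simp [e, e', Ideal.span_singleton_mul_span_singleton]

lemma pow {𝓘 : X.IdealSheafData} (h𝓘 : BlowUp.IsEffCartierIdeal 𝓘) :
    ∀ n : ℕ, BlowUp.IsEffCartierIdeal (𝓘 ^ n)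
  | 0 => by simpa using top
  | n + 1 => by simpa [pow_succ] using mul (pow h𝓘 n) h𝓘

/-- An ideal whose product with another is invertible and principal is itself locally principal. -/
lemma exists_basicOpen_principal {R : Type u} [CommRing R] {I J : Ideal R} {f : R}
    (hf : f ∈ nonZeroDivisors R) (h : I * J = Ideal.span {f}) (p : Ideal R) [p.IsPrime] :
    ∃ g a : R, g ∉ p ∧ a ∈ I ∧ ∀ x ∈ I, ∃ c : R, g * x = c * a := by
  have hf' : ∀ {s : R}, s * f = 0 → s = 0 := fun {s} hs =>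
    (mem_nonZeroDivisors_iff_right.mp hf) s hs
  have key : ∀ a ∈ I, ∀ b ∈ J, ∃ c : R, a * b = c * f := fun a ha b hb => by
    have := h.le (Ideal.mul_mem_mul ha hb)
    obtain ⟨c, hc⟩ := Ideal.mem_span_singleton'.mp this
    exact ⟨c, hc.symm⟩
  have hex : ∃ a ∈ I, ∃ b ∈ J, ∃ c : R, a * b = c * f ∧ c ∉ p := by
    by_contra hne
    push Not at hne
    have hle : I * J ≤ p * Ideal.span {f} := by
      refine Ideal.mul_le.mpr fun a ha b hb => ?_
      obtain ⟨c, hc⟩ := key a ha b hb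
      rw [hc]
      exact Ideal.mul_mem_mul (hne a ha b hb c hc) (Ideal.mem_span_singleton_self f)
    have hmem : f ∈ p * Ideal.span {f} := hle (h.ge (Ideal.mem_span_singleton_self f))
    obtain ⟨q, hq, hqf⟩ := Ideal.mem_mul_span_singleton.mp hmem
    have h1 : q - 1 = 0 := hf' (by rw [sub_mul, hqf, one_mul, sub_self])
    exact Ideal.IsPrime.ne_top ‹_› ((Ideal.eq_top_iff_one p).mpr (by rwa [sub_eq_zero.mp h1] at hq))
  obtain ⟨a, ha, b, hb, c, hc, hcp⟩ := hex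
  refine ⟨c, a, hcp, ha, fun x hx => ?_⟩
  obtain ⟨d, hd⟩ := key x hx b hb
  refine ⟨d, ?_⟩
  have h2 : (c * x - d * a) * f = 0 := by linear_combination (-x) * hc + a * hd
  exact sub_eq_zero.mp (hf' h2)

lemma factor_left {𝓘 𝓙 : X.IdealSheafData} (h : BlowUp.IsEffCartierIdeal (𝓘 * 𝓙)) :
    BlowUp.IsEffCartierIdeal 𝓘 := fun x => by
  obtain ⟨U, hxU, f, hf, he⟩ := h x
  simp only [Scheme.IdealSheafData.ideal_mul, Pi.mul_apply] at he
  obtain ⟨g, a, hg, ha, hax⟩ := exists_basicOpen_principal hf he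
    ((U.2.primeIdealOf ⟨x, hxU⟩).asIdeal)
  have hgx : x ∈ X.basicOpen g := by
    by_contra hxg
    apply hg
    by_contra hgp
    have h2 : U.2.primeIdealOf ⟨x, hxU⟩ ∈ U.2.fromSpec ⁻¹ᵁ X.basicOpen g := by
      rw [U.2.fromSpec_preimage_basicOpen]
      exact hgp
    apply hxg
    have h3 : U.2.fromSpec (U.2.primeIdealOf ⟨x, hxU⟩) ∈ X.basicOpen g := h2
    rwa [U.2.fromSpec_primeIdealOf] at h3
  have hle : (X.affineBasicOpen g).1 ≤ U.1 := X.basicOpen_le g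
  have hu : IsUnit (X.presheaf.map (homOfLE hle).op g) :=
    RingedSpace.isUnit_res_basicOpen _ g
  have e2 : 𝓘.ideal (X.affineBasicOpen g) = Ideal.span {X.presheaf.map (homOfLE hle).op a} := by
    refine le_antisymm ?_ ?_
    · rw [← 𝓘.map_ideal (U := X.affineBasicOpen g) (V := U) hle]
      refine Ideal.map_le_iff_le_comap.mpr fun y hy => ?_
      obtain ⟨c, hc⟩ := hax y hy
      rw [Ideal.mem_comap]
      refine (Ideal.unit_mul_mem_iff_mem _ hu).mp ?_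
      change X.presheaf.map (homOfLE hle).op g * X.presheaf.map (homOfLE hle).op y ∈ _
      rw [← map_mul, hc, map_mul]
      exact Ideal.mul_mem_left _ _ (Ideal.mem_span_singleton_self _)
    · rw [Ideal.span_le, Set.singleton_subset_iff]
      exact 𝓘.ideal_le_comap_ideal (U := X.affineBasicOpen g) (V := U) hle ha
  refine ⟨X.affineBasicOpen g, hgx, _, ?_, e2⟩
  have hf' := map_res_mem_nonZeroDivisors (V := X.affineBasicOpen g) hle hf
  have hf'' : X.presheaf.map (homOfLE hle).op f ∈ 𝓘.ideal (X.affineBasicOpen g) :=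
    𝓘.ideal_le_comap_ideal (U := X.affineBasicOpen g) (V := U) hle
      (Ideal.mul_le_left (he.ge (Ideal.mem_span_singleton_self f)))
  rw [e2] at hf''
  obtain ⟨c, hc⟩ := Ideal.mem_span_singleton'.mp hf''
  rw [← hc] at hf'
  exact (mul_mem_nonZeroDivisors.mp hf').2

lemma factor_right {𝓘 𝓙 : X.IdealSheafData} (h : BlowUp.IsEffCartierIdeal (𝓘 * 𝓙)) :
    BlowUp.IsEffCartierIdeal 𝓙 :=
  factor_left (𝓙 := 𝓘) (by rwa [mul_comm] at h)

lemma comap_of_flat (f : X ⟶ Y) [Flat f] {𝓘 : Y.IdealSheafData}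
    (h : BlowUp.IsEffCartierIdeal 𝓘) : BlowUp.IsEffCartierIdeal (𝓘.comap f) := fun x => by
  obtain ⟨U, hxU, a, ha, he⟩ := h (f x)
  obtain ⟨V, hxV, hle⟩ := exists_affine_le x (f ⁻¹ᵁ U.1) hxU
  exact ⟨V, hxV, _, map_mem_nonZeroDivisors_of_flat _ (f.flat_appLE U.2 V.2 (e := hle)) ha,
    ideal_comap_span_singleton 𝓘 f U V hle he⟩

/-- A sufficient criterion for a pullback of an effective Cartier ideal to be effective Cartier. -/
lemma comap_of_forall (f : X ⟶ Y) {𝓘 : Y.IdealSheafData} (h : BlowUp.IsEffCartierIdeal 𝓘)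
    (H : ∀ (U : Y.affineOpens) (V : X.affineOpens) (e : V.1 ≤ f ⁻¹ᵁ U.1) (a : Γ(Y, U.1)),
      a ∈ nonZeroDivisors Γ(Y, U.1) → 𝓘.ideal U = Ideal.span {a} →
      (f.appLE U V e).hom a ∈ nonZeroDivisors Γ(X, V.1)) :
    BlowUp.IsEffCartierIdeal (𝓘.comap f) := fun x => by
  obtain ⟨U, hxU, a, ha, he⟩ := h (f x)
  obtain ⟨V, hxV, hle⟩ := exists_affine_le x (f ⁻¹ᵁ U.1) hxU
  exact ⟨V, hxV, _, H U V hle a ha he, ideal_comap_span_singleton 𝓘 f U V hle he⟩

lemma comap_iso_iff (f : X ⟶ Y) [IsIso f] (𝓘 : Y.IdealSheafData) :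
    BlowUp.IsEffCartierIdeal (𝓘.comap f) ↔ BlowUp.IsEffCartierIdeal 𝓘 := by
  refine ⟨fun h => ?_, comap_of_flat f⟩
  have := comap_of_flat (inv f) h
  rwa [← Scheme.IdealSheafData.comap_comp, IsIso.inv_hom_id,
    Scheme.IdealSheafData.comap_id] at this

/-- Being effective Cartier is local on the source. -/
lemma of_openCover {𝓘 : X.IdealSheafData}
    (h : ∀ x : X, ∃ W : X.Opens, x ∈ W ∧ BlowUp.IsEffCartierIdeal (𝓘.comap W.ι)) :
    BlowUp.IsEffCartierIdeal 𝓘 := fun x => by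
  obtain ⟨W, hxW, hW⟩ := h x
  obtain ⟨V, hxV, f, hf, he⟩ := hW ⟨x, hxW⟩
  let V' : X.affineOpens := ⟨W.ι ''ᵁ V.1, V.2.image_of_isOpenImmersion _⟩
  refine ⟨V', ⟨⟨x, hxW⟩, hxV, rfl⟩, (W.ι.appIso V.1).inv f, ?_, ?_⟩
  · exact map_mem_nonZeroDivisors_of_flat (W.ι.appIso V.1).inv.hom
      (RingHom.Flat.of_bijective (ConcreteCategory.bijective_of_isIso _)) hf
  · rw [Scheme.IdealSheafData.ideal_comap_of_isOpenImmersion] at he
    have h2 := congrArg (Ideal.map (W.ι.appIso V.1).inv.hom) he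
    rw [Ideal.map_comap_of_surjective _ (ConcreteCategory.bijective_of_isIso _).2,
      Ideal.map_span, Set.image_singleton] at h2
    exact h2

end Groth.Agent.IdealSh.EffCartier
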