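import Groth.Agent.IdealSh.EffCartier
import Mathlib.AlgebraicGeometry.Properties
import Mathlib.AlgebraicGeometry.Morphisms.QuasiCompact
import Mathlib.AlgebraicGeometry.Stalk

/-!
# Nonzerodivisors on affine opens, germs, maximal points
-/

set_option autoImplicit false
set_option maxHeartbeats 400000

universe u

open CategoryTheory AlgebraicGeometry TopologicalSpace
open Groth.Agent.IdealSh.Comap Groth.Agent.IdealSh.EffCartier

namespace Groth.Agent.IdealSh.Regular

variable {X Y : Scheme.{u}}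

/-- The germ of a nonzerodivisor on an affine open is a nonzerodivisor. -/
lemma germ_mem_nonZeroDivisors {U : X.Opens} (hU : IsAffineOpen U) (x : X) (hx : x ∈ U)
    {a : Γ(X, U)} (ha : a ∈ nonZeroDivisors Γ(X, U)) :
    X.presheaf.germ U x hx a ∈ nonZeroDivisors (X.presheaf.stalk x) := by
  letI := TopCat.Presheaf.algebra_section_stalk X.presheaf ⟨x, hx⟩
  have := hU.isLocalization_stalk ⟨x, hx⟩
  have : Module.Flat Γ(X, U) (X.presheaf.stalk x) :=
    IsLocalization.flat _ (hU.primeIdealOf ⟨x, hx⟩).asIdeal.primeCompl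
  exact map_mem_nonZeroDivisors_of_flat (algebraMap Γ(X, U) (X.presheaf.stalk x))
    (RingHom.flat_algebraMap_iff.mpr this) ha

/-- A section whose germs are all nonzerodivisors is a nonzerodivisor. -/
lemma mem_nonZeroDivisors_of_germ {U : X.Opens} {a : Γ(X, U)}
    (ha : ∀ (x : X) (hx : x ∈ U), X.presheaf.germ U x hx a ∈ nonZeroDivisors (X.presheaf.stalk x)) :
    a ∈ nonZeroDivisors Γ(X, U) := by
  rw [mem_nonZeroDivisors_iff_right]
  intro b hb
  refine TopCat.Presheaf.section_ext X.sheaf U _ _ fun x hx => ?_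
  have h0 := congrArg (X.presheaf.germ U x hx) hb
  rw [map_mul, map_zero] at h0
  exact ((mem_nonZeroDivisors_iff_right.mp (ha x hx)) _ h0).trans (map_zero _).symm

/-- A function on an affine open vanishing where a nonzerodivisor is invertible vanishes. -/
lemma eq_zero_of_restrict_basicOpen {U : X.Opens} (hU : IsAffineOpen U) {e x : Γ(X, U)}
    (he : e ∈ nonZeroDivisors Γ(X, U))
    (h : X.presheaf.map (homOfLE (X.basicOpen_le e)).op x = 0) : x = 0 := by
  obtain ⟨n, hn⟩ := exists_pow_mul_eq_zero_of_res_basicOpen_eq_zero_of_isCompact X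
    (U := U) hU.isCompact x e h
  exact (mem_nonZeroDivisors_iff_left.mp (pow_mem he n)) x hn

lemma fromSpecStalk_injective (x : X) : Function.Injective (X.fromSpecStalk x) :=
  (X.fromSpecStalk x).isEmbedding.injective

/-- At a maximal point (generic point of a component) the maximal ideal is the nilradical. -/
lemma isNilpotent_of_maximal (x : X) (hx : ∀ y : X, y ⤳ x → y = x) (a : X.presheaf.stalk x)
    (ha : a ∈ IsLocalRing.maximalIdeal (X.presheaf.stalk x)) : IsNilpotent a := by
  rw [nilpotent_iff_mem_prime]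
  intro q hq
  have hmem : X.fromSpecStalk x (⟨q, hq⟩ : PrimeSpectrum (X.presheaf.stalk x)) ∈
      Set.range (X.fromSpecStalk x) := ⟨_, rfl⟩
  rw [Scheme.range_fromSpecStalk] at hmem
  have h2 : X.fromSpecStalk x (⟨q, hq⟩ : PrimeSpectrum (X.presheaf.stalk x)) =
      X.fromSpecStalk x (IsLocalRing.closedPoint (X.presheaf.stalk x)) := by
    rw [hx _ hmem, Scheme.fromSpecStalk_closedPoint]
  have h3 := congrArg PrimeSpectrum.asIdeal (fromSpecStalk_injective x h2)
  change q = IsLocalRing.maximalIdeal _ at h3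
  rw [h3]; exact ha

/-- An effective Cartier divisor contains no maximal point. -/
lemma not_mem_support_of_maximal {𝓘 : X.IdealSheafData} (h : BlowUp.IsEffCartierIdeal 𝓘) (x : X)
    (hx : ∀ y : X, y ⤳ x → y = x) : x ∉ 𝓘.support := by
  intro hmem
  obtain ⟨U, hxU, -, f, hf, he⟩ := exists_equation h x ⊤ trivial
  rw [Scheme.IdealSheafData.mem_support_iff_of_mem hxU, he] at hmem
  simp only [Scheme.zeroLocus_span, Scheme.zeroLocus_singleton, Set.mem_compl_iff, SetLike.mem_coe,
    Scheme.mem_basicOpen _ _ x hxU] at hmem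
  obtain ⟨n, hn⟩ := isNilpotent_of_maximal x hx (X.presheaf.germ U.1 x hxU f)
    ((IsLocalRing.mem_maximalIdeal _).mpr hmem)
  have := pow_mem (germ_mem_nonZeroDivisors U.2 x hxU hf) n
  rw [hn] at this
  exact zero_notMem_nonZeroDivisors this

/-- The non-vanishing locus of an equation is the complement of the support. -/
lemma basicOpen_eq_compl_support {𝓘 : X.IdealSheafData} {U : X.affineOpens} {e : Γ(X, U.1)}
    (he : 𝓘.ideal U = Ideal.span {e}) :
    (X.basicOpen e : Set X) = (U.1 : Set X) \ (𝓘.support : Set X) := by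
  ext x
  constructor
  · intro hx
    refine ⟨X.basicOpen_le e hx, fun hs => ?_⟩
    rw [SetLike.mem_coe, Scheme.IdealSheafData.mem_support_iff_of_mem (X.basicOpen_le e hx), he] at hs
    simp only [Scheme.zeroLocus_span, Scheme.zeroLocus_singleton, Set.mem_compl_iff] at hs
    exact hs hx
  · rintro ⟨hxU, hns⟩
    by_contra hne
    apply hns
    rw [SetLike.mem_coe, Scheme.IdealSheafData.mem_support_iff_of_mem hxU, he]
    simpa [Scheme.zeroLocus_span, Scheme.zeroLocus_singleton] using hne

/-- If the restriction of `b` to an open `W` is flat, so are the ring maps to affine opens in `W`. -/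
lemma flat_appLE_of_flat_ι (b : X ⟶ Y) {U : Y.Opens} (hU : IsAffineOpen U) {W : X.Opens}
    (hW : IsAffineOpen W) [Flat (W.ι ≫ b)] (e : W ≤ b ⁻¹ᵁ U) :
    (b.appLE U W e).hom.Flat := by
  have : IsAffine (W : Scheme.{u}) := hW
  have h1 : (⊤ : (W : Scheme.{u}).Opens) ≤ (W.ι ≫ b) ⁻¹ᵁ U := fun x _ => e x.2
  have h2 : b.appLE U W e ≫ W.ι.appLE W ⊤ W.ι_preimage_self.ge = (W.ι ≫ b).appLE U ⊤ h1 :=
    Scheme.Hom.appLE_comp_appLE _ _ _ _ _ _ _
  have h3 : b.appLE U W e =
      (W.ι ≫ b).appLE U ⊤ h1 ≫ inv (W.ι.appLE W ⊤ W.ι_preimage_self.ge) := by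
    rw [← h2, Category.assoc, IsIso.hom_inv_id, Category.comp_id]
  rw [h3, CommRingCat.hom_comp]
  exact RingHom.Flat.comp ((W.ι ≫ b).flat_appLE hU (isAffineOpen_top _) (e := h1))
    (RingHom.Flat.of_bijective (ConcreteCategory.bijective_of_isIso _))

end Groth.Agent.IdealSh.Regular
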