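import Groth.Agent.Omega.Stalks
import Groth.Agent.LFFrame.Basic
import Groth.Agent.IdealSh.Regular

/-!
# The ideal module of an effective Cartier divisor
-/

set_option autoImplicit false
set_option maxHeartbeats 400000

universe u

open CategoryTheory CategoryTheory.Limits AlgebraicGeometry TopologicalSpace
open Groth.Agent.PullStalk.Sky Groth.Agent.Omega.Stalks Groth.Agent.LFFrame OmegaSh

namespace Groth.Agent.IdealSh.IdealMod

variable {X : Scheme.{u}} (𝓘 : X.IdealSheafData)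

lemma mem_ideal_iff (T : X.affineOpens) (t : Γ(X, T.1)) :
    t ∈ 𝓘.ideal T ↔ 𝓘.subschemeι.app T.1 t = 0 := by
  rw [← 𝓘.ker_subschemeι_app T]
  exact RingHom.mem_ker

lemma exists_sect (U : X.Opens) (t : Γ(X, U)) (h : 𝓘.subschemeι.app U t = 0) :
    ∃ s : Γ(ClSub.idealMod 𝓘, U), idealSect 𝓘 U s = t := by
  have := exists_idealSect_eq 𝓘.subschemeι U t h
  rwa [Scheme.IdealSheafData.ker_subschemeι] at this

lemma app_sect (U : X.Opens) (s : Γ(ClSub.idealMod 𝓘, U)) :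
    𝓘.subschemeι.app U (idealSect 𝓘 U s) = 0 := by
  have key : ∀ J : X.IdealSheafData, J = 𝓘.subschemeι.ker → ∀ s : Γ(ClSub.idealMod J, U),
      𝓘.subschemeι.app U (idealSect J U s) = 0 := by
    rintro _ rfl s
    exact app_idealSect 𝓘.subschemeι U s
  exact key 𝓘 (Scheme.IdealSheafData.ker_subschemeι 𝓘).symm s

lemma sect_mem (T : X.affineOpens) (s : Γ(ClSub.idealMod 𝓘, T.1)) :
    idealSect 𝓘 T.1 s ∈ 𝓘.ideal T :=
  (mem_ideal_iff 𝓘 T _).mpr (app_sect 𝓘 T.1 s)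

/-- An equation gives a frame of the ideal module. -/
theorem exists_isFrame_of_equation {U : X.affineOpens} {f : Γ(X, U.1)}
    (hf : f ∈ nonZeroDivisors Γ(X, U.1)) (he : 𝓘.ideal U = Ideal.span {f}) :
    ∃ e : Fin 1 → Γ(ClSub.idealMod 𝓘, U.1), IsFrame (ClSub.idealMod 𝓘) U.1 e ∧
      idealSect 𝓘 U.1 (e 0) = f := by
  obtain ⟨s, hs⟩ := exists_sect 𝓘 U.1 f
    ((mem_ideal_iff 𝓘 U f).mp (he ▸ Ideal.subset_span rfl))
  refine ⟨fun _ => s, isFrame_of_stalkComb_bijective fun x hx => ?_, hs⟩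
  have key : ∀ a : Fin 1 → X.presheaf.stalk x,
      idealStalk 𝓘 x (stalkComb (ClSub.idealMod 𝓘) (fun _ => s) x hx a) =
        a 0 * X.presheaf.germ U.1 x hx f := fun a => by
    simp only [stalkComb, Fintype.linearCombination_apply, Fin.sum_univ_one, map_smul, smul_eq_mul]
    rw [idealStalk_germ, hs]
  constructor
  · intro a b hab
    funext i
    rw [Subsingleton.elim i 0]
    have h := congrArg (idealStalk 𝓘 x) hab
    rw [key, key] at h
    exact (mul_cancel_right_mem_nonZeroDivisors (Regular.germ_mem_nonZeroDivisors U.2 x hx hf)).mp h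
  · intro t
    obtain ⟨W, hxW, m, rfl⟩ := exists_germM_eq _ x t
    obtain ⟨T, hxT, hT⟩ := Comap.exists_affine_le x (W ⊓ U.1) ⟨hxW, hx⟩
    have hTU : T.1 ≤ U.1 := hT.trans inf_le_right
    have hmem := sect_mem 𝓘 T ((ClSub.idealMod 𝓘).presheaf.map (homOfLE (hT.trans inf_le_left)).op m)
    rw [EffCartier.restrict_eq hTU he, Ideal.mem_span_singleton'] at hmem
    obtain ⟨a, ha⟩ := hmem
    refine ⟨fun _ => X.presheaf.germ T.1 x hxT a, idealStalk_injective 𝓘 x ?_⟩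
    rw [key, idealStalk_germ]
    have h1 := congrArg (X.presheaf.germ T.1 x hxT) ha
    rw [map_mul, idealSect_map, TopCat.Presheaf.germ_res_apply,
      TopCat.Presheaf.germ_res_apply] at h1
    exact h1

theorem isInvertible_of_isEffCartierIdeal (h : BlowUp.IsEffCartierIdeal 𝓘) :
    PicF.IsInvertible (ClSub.idealMod 𝓘) := fun x => by
  obtain ⟨U, hxU, f, hf, he⟩ := h x
  obtain ⟨e, hframe, -⟩ := exists_isFrame_of_equation 𝓘 hf he
  exact ⟨U.1, hxU, hframe.nonempty_restrict_iso⟩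

theorem isEffCartierIdeal_of_isInvertible (h : PicF.IsInvertible (ClSub.idealMod 𝓘)) :
    BlowUp.IsEffCartierIdeal 𝓘 := fun x => by
  obtain ⟨U, hx, ⟨φ⟩⟩ := h x
  obtain ⟨e, he⟩ := exists_isFrame_of_split (M := ClSub.idealMod 𝓘) (fun _ : Fin 1 => φ.inv)
    (fun _ => φ.hom) (fun i j => by simp [Subsingleton.elim i j]) (by simp)
  obtain ⟨T, hxT, hT⟩ := Comap.exists_affine_le x U hx
  let g := X.presheaf.map (homOfLE hT).op (idealSect 𝓘 U (e 0))
  have hsect : ∀ a : Fin 1 → Γ(X, T.1),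
      idealSect 𝓘 T.1 (comb (ClSub.idealMod 𝓘) e hT a) = a 0 * g := fun a => by
    simp only [comb, Fin.sum_univ_one, idealSect_smul, idealSect_map, g]
  refine ⟨T, hxT, g, mem_nonZeroDivisors_iff_right.mpr fun a ha => ?_, le_antisymm (fun t ht => ?_) ?_⟩
  · have h1 : idealSect 𝓘 T.1 (comb (ClSub.idealMod 𝓘) e hT (fun _ => a)) =
        idealSect 𝓘 T.1 (comb (ClSub.idealMod 𝓘) e hT 0) := by
      rw [hsect, hsect, ha, Pi.zero_apply, zero_mul]
    exact congrFun ((he _ hT).1 (idealSect_injective 𝓘 T.1 h1)) 0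
  · obtain ⟨s, hs⟩ := exists_sect 𝓘 T.1 t ((mem_ideal_iff 𝓘 T t).mp ht)
    obtain ⟨a, rfl⟩ := (he _ hT).2 s
    rw [← hs, hsect]
    exact Ideal.mul_mem_left _ _ (Ideal.subset_span rfl)
  · rw [Ideal.span_le, Set.singleton_subset_iff, SetLike.mem_coe]
    have h1 := sect_mem 𝓘 T (comb (ClSub.idealMod 𝓘) e hT 1)
    rwa [hsect, Pi.one_apply, one_mul] at h1

end Groth.Agent.IdealSh.IdealMod
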