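import Groth.Agent.IdealSh.Regular
import Groth.Agent.PullStalk.Sky
import Groth.Prelude.Def_CurvBase

/-!
# Functions detected at maximal points / weakly associated points of the structure sheaf
-/

set_option autoImplicit false
set_option maxHeartbeats 400000

universe u

open CategoryTheory AlgebraicGeometry TopologicalSpace
open Groth.Agent.IdealSh.Comap Groth.Agent.IdealSh.EffCartier

namespace Groth.Agent.IdealSh.GenericPts

variable {X : Scheme.{u}}

/-- Every point has a generalisation which is maximal. -/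
lemma exists_maximal_generalization (x : X) :
    ∃ ξ : X, ξ ⤳ x ∧ ∀ y : X, y ⤳ ξ → y = ξ := by
  obtain ⟨q, hq⟩ := Ideal.nonempty_minimalPrimes (R := X.presheaf.stalk x) (I := ⊥) bot_ne_top
  have hqp : q.IsPrime := hq.1.1
  let p : PrimeSpectrum (X.presheaf.stalk x) := ⟨q, hqp⟩
  have hp : X.fromSpecStalk x p ∈ Set.range (X.fromSpecStalk x) := ⟨p, rfl⟩
  rw [Scheme.range_fromSpecStalk] at hp
  refine ⟨_, hp, fun y hy => ?_⟩
  have hy' : y ∈ Set.range (X.fromSpecStalk x) := by
    rw [Scheme.range_fromSpecStalk]; exact hy.trans hp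
  obtain ⟨p', rfl⟩ := hy'
  rw [(X.fromSpecStalk x).isEmbedding.isInducing.specializes_iff] at hy
  replace hy := (PrimeSpectrum.le_iff_specializes p' p).mpr hy
  exact congrArg _ (PrimeSpectrum.ext (le_antisymm hy (hq.2 ⟨p'.isPrime, bot_le⟩ hy)))

/-- On a reduced scheme a function vanishing at all maximal points vanishes. -/
lemma eq_zero_of_germ_maximal [IsReduced X] {U : X.Opens} (y : Γ(X, U))
    (h : ∀ (ξ : X) (hξ : ξ ∈ U), (∀ z : X, z ⤳ ξ → z = ξ) → X.presheaf.germ U ξ hξ y = 0) :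
    y = 0 := by
  rw [← basicOpen_eq_bot_iff]
  refine Opens.ext (Set.eq_empty_iff_forall_notMem.mpr fun x hx => ?_)
  obtain ⟨ξ, hξx, hξ⟩ := exists_maximal_generalization x
  have hm : ξ ∈ X.basicOpen y := hξx.mem_open (X.basicOpen y).2 hx
  have hu := (Scheme.mem_basicOpen _ _ ξ (X.basicOpen_le y hm)).mp hm
  rw [h ξ _ hξ] at hu
  exact not_isUnit_zero hu

/-- The germ of a function, seen in the stalk of the structure module. -/
noncomputable abbrev germU {U : X.Opens} (x : X) (hx : x ∈ U) (y : Γ(X, U)) :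
    ↑((Coh.structureModule X).presheaf.stalk x) :=
  PullStalk.Sky.germM (Coh.structureModule X) U x hx y

lemma germU_eq_zero_iff {U : X.Opens} (x : X) (hx : x ∈ U) (y : Γ(X, U)) :
    germU x hx y = 0 ↔ X.presheaf.germ U x hx y = 0 := by
  constructor
  · intro h
    have h' : germU x hx y = germU x hx (0 : Γ(X, U)) := h.trans (map_zero _).symm
    obtain ⟨W, hW, i, j, e⟩ := TopCat.Presheaf.germ_eq _ x hx hx _ _ h'
    replace e : X.presheaf.map i.op y = X.presheaf.map j.op 0 := e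
    rw [← X.presheaf.germ_res_apply i x hW y, e, map_zero, map_zero]
  · intro h
    have h' : X.presheaf.germ U x hx y = X.presheaf.germ U x hx 0 := h.trans (map_zero _).symm
    obtain ⟨W, hW, i, j, e⟩ := TopCat.Presheaf.germ_eq _ x hx hx _ _ h'
    rw [← map_zero ((Coh.structureModule X).presheaf.germ U x hx).hom]
    exact TopCat.Presheaf.germ_ext _ W hW i j e

lemma smul_germU_eq_zero_iff {U : X.Opens} (x : X) (hx : x ∈ U) (r : X.presheaf.stalk x)
    (y : Γ(X, U)) : r • germU x hx y = 0 ↔ r * X.presheaf.germ U x hx y = 0 := by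
  obtain ⟨W, hW, s, rfl⟩ := X.presheaf.exists_germ_eq (x := x) r
  have h1 : germU x hx y =
      germU (U := U ⊓ W) x ⟨hx, hW⟩ (X.presheaf.map (homOfLE inf_le_left).op y) :=
    ((Coh.structureModule X).presheaf.germ_res_apply (homOfLE (inf_le_left : U ⊓ W ≤ U)) x ⟨hx, hW⟩
      (show Γ(Coh.structureModule X, U) from y)).symm
  rw [h1, ← X.presheaf.germ_res_apply (homOfLE (inf_le_right : U ⊓ W ≤ W)) x ⟨hx, hW⟩ s,
    ← X.presheaf.germ_res_apply (homOfLE (inf_le_left : U ⊓ W ≤ U)) x ⟨hx, hW⟩ y, ← map_mul,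
    ← germU_eq_zero_iff, germU, PullStalk.Sky.germM, ← PullStalk.Sky.germM_smul]
  rfl

/-- A nonzero function on an affine open is nonzero at some weakly associated point. -/
lemma exists_isWeakAssPoint {V : X.Opens} (hV : IsAffineOpen V) {y : Γ(X, V)} (hy : y ≠ 0) :
    ∃ (x : X) (hx : x ∈ V), X.presheaf.germ V x hx y ≠ 0 ∧
      Curv2.IsWeakAssPoint (Coh.structureModule X) x := by
  let I : Ideal Γ(X, V) := LinearMap.ker (LinearMap.toSpanSingleton Γ(X, V) Γ(X, V) y)
  have hI : ∀ c, c ∈ I ↔ c * y = 0 := fun c => by simp [I]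
  obtain ⟨p, hp⟩ := Ideal.nonempty_minimalPrimes (I := I) fun h => hy (by
    simpa using (hI 1).mp (h ▸ Submodule.mem_top))
  have hpp : p.IsPrime := hp.1.1
  let pt : PrimeSpectrum Γ(X, V) := ⟨p, hpp⟩
  have hx : hV.fromSpec pt ∈ V := by
    rw [← SetLike.mem_coe, ← hV.range_fromSpec]; exact ⟨pt, rfl⟩
  letI := TopCat.Presheaf.algebra_section_stalk X.presheaf ⟨_, hx⟩
  have hloc : IsLocalization.AtPrime (X.presheaf.stalk (hV.fromSpec pt)) p :=
    hV.isLocalization_stalk' pt hx
  refine ⟨_, hx, fun h0 => ?_, ?_⟩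
  · obtain ⟨⟨c, hc⟩, hcy⟩ := (IsLocalization.map_eq_zero_iff p.primeCompl
      (X.presheaf.stalk (hV.fromSpec pt)) y).mp h0
    exact hc (hp.1.2 ((hI c).mpr hcy))
  · refine ⟨germU _ hx y, ?_⟩
    set J := LinearMap.ker (LinearMap.toSpanSingleton (X.presheaf.stalk (hV.fromSpec pt)) _
      (germU _ hx y))
    have hJ : ∀ r, r ∈ J ↔ r * algebraMap Γ(X, V) _ y = 0 := fun r => by
      simp [J, smul_germU_eq_zero_iff]; rfl
    have hle : ∀ Q : Ideal (X.presheaf.stalk (hV.fromSpec pt)), Q.IsPrime → J ≤ Q →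
        Q = IsLocalRing.maximalIdeal _ := by
      intro Q hQ hJQ
      have h1 : Q.comap (algebraMap Γ(X, V) (X.presheaf.stalk (hV.fromSpec pt))) ≤ p :=
        ((IsLocalization.AtPrime.orderIsoOfPrime _ p) ⟨Q, hQ⟩).2.2
      have h2 : I ≤ Q.comap (algebraMap Γ(X, V) (X.presheaf.stalk (hV.fromSpec pt))) := by
        intro c hc
        refine hJQ ((hJ _).mpr ?_)
        rw [← map_mul, (hI c).mp hc, map_zero]
      have h3 := hp.2 ⟨hQ.comap _, h2⟩ h1
      rw [← IsLocalization.AtPrime.map_eq_maximalIdeal p (X.presheaf.stalk (hV.fromSpec pt)),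
        le_antisymm h3 h1, IsLocalization.map_under p.primeCompl]
    have hne : J ≠ ⊤ := by
      intro h
      have h1 := (hJ 1).mp (h ▸ Submodule.mem_top)
      rw [one_mul] at h1
      obtain ⟨⟨c, hc⟩, hcy⟩ := (IsLocalization.map_eq_zero_iff p.primeCompl
        (X.presheaf.stalk (hV.fromSpec pt)) y).mp h1
      exact hc (hp.1.2 ((hI c).mpr hcy))
    obtain ⟨M, hM⟩ := Ideal.exists_le_maximal J hne
    rw [Ideal.radical_eq_sInf]
    refine le_antisymm (sInf_le ⟨?_, inferInstance⟩) (le_sInf fun Q hQ => (hle Q hQ.2 hQ.1).ge)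
    exact (hle M hM.1.isPrime hM.2) ▸ hM.2

end Groth.Agent.IdealSh.GenericPts
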