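import Groth.Agent.IdealSh.UFD
import Groth.Agent.IdealSh.Regular
import Groth.Agent.WeakAssSch.Unit

/-!
# Closed subschemes of pure codimension one in locally factorial schemes
-/

set_option autoImplicit false
set_option maxHeartbeats 400000

universe u

open CategoryTheory AlgebraicGeometry TopologicalSpace

namespace Groth.Agent.IdealSh.CodimOne

/-- An annihilator of a fraction, contracted. -/
lemma exists_colon {R L : Type u} [CommRing R] [IsNoetherianRing R] [CommRing L] [Algebra R L]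
    (q : Ideal R) [q.IsPrime] [IsLocalization.AtPrime L q] (I : Ideal R) {p' : Ideal L}
    (hp' : IsAssociatedPrime p' (L ⧸ I.map (algebraMap R L))) :
    ∃ r : R, ∀ c : R, c ∈ p'.comap (algebraMap R L) ↔ c * r ∈ I := by
  classical
  have := IsLocalization.isNoetherianRing q.primeCompl L inferInstance
  obtain ⟨hprime, m, hm⟩ := hp'
  obtain ⟨m', rfl⟩ := Ideal.Quotient.mk_surjective m
  have hrad : ∃ m'' : L, ∀ l : L, l ∈ p' ↔ l * m'' ∈ I.map (algebraMap R L) := by
    have h1 : p' ∈ associatedPrimes L (L ⧸ I.map (algebraMap R L)) := ⟨hprime, _, hm⟩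
    obtain ⟨-, x, hx⟩ := isAssociatedPrime_iff.mp h1
    obtain ⟨x', rfl⟩ := Ideal.Quotient.mk_surjective x
    refine ⟨x', fun l => ?_⟩
    rw [hx, Submodule.mem_colon_singleton, Submodule.mem_bot, ← Ideal.Quotient.eq_zero_iff_mem]
    rfl
  obtain ⟨m'', hm''⟩ := hrad
  obtain ⟨⟨r, s⟩, hrs⟩ := IsLocalization.surj q.primeCompl m''
  have hu := IsLocalization.map_units L s
  let p := p'.comap (algebraMap R L)
  have key : ∀ c : R, c ∈ p ↔ ∃ u ∈ q.primeCompl, u * (c * r) ∈ I := by
    intro c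
    rw [Ideal.mem_comap, hm'',
      ← IsLocalization.algebraMap_mem_map_algebraMap_iff q.primeCompl L, map_mul, ← hrs,
      ← mul_assoc, Ideal.mul_unit_mem_iff_mem _ hu]
  obtain ⟨G, hG⟩ := IsNoetherian.noetherian p
  choose! u hu hu' using fun c (hc : c ∈ G) => (key c).mp (hG ▸ Submodule.subset_span hc)
  refine ⟨(∏ c ∈ G, u c) * r, fun c => ⟨fun hc => ?_, fun hc => (key c).mpr
    ⟨∏ c ∈ G, u c, prod_mem hu, by rwa [mul_left_comm]⟩⟩⟩
  have hle : p ≤ I.colon {(∏ c ∈ G, u c) * r} := by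
    rw [← hG, Submodule.span_le]
    intro g hg
    obtain ⟨d, hd⟩ := Finset.dvd_prod_of_mem u (hg : g ∈ G)
    refine Submodule.mem_colon_singleton.mpr ?_
    rw [smul_eq_mul, show g * ((∏ c ∈ G, u c) * r) = d * (u g * (g * r)) by
      rw [show (∏ c ∈ G, u c) = _ from hd]; ring]
    exact I.mul_mem_left d (hu' g hg)
  exact Submodule.mem_colon_singleton.mp (hle hc)

variable {X : Scheme.{u}} [IsLocallyNoetherian X]

theorem isEffCartierIdeal (𝓘 : X.IdealSheafData)
    (h1 : ∀ z : ↥𝓘.subscheme, IsAssociatedPrime (IsLocalRing.maximalIdeal ↑(𝓘.subscheme.presheaf.stalk z)) ↑(𝓘.subscheme.presheaf.stalk z) → ∀ z' : ↥𝓘.subscheme, z' ⤳ z → z' = z)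
    (h2 : ∀ z : ↥𝓘.subscheme, (∀ z' : ↥𝓘.subscheme, z' ⤳ z → z' = z) →
      ringKrullDim (X.presheaf.stalk (𝓘.subschemeι z)) = 1)
    (h3 : ∀ x : ↥X, x ∈ 𝓘.support → IsDomain (X.presheaf.stalk x) ∧ UniqueFactorizationMonoid (X.presheaf.stalk x)) :
    BlowUp.IsEffCartierIdeal 𝓘 := by
  intro x
  by_cases hxs : x ∈ 𝓘.support
  swap
  · obtain ⟨V, hxV, hle⟩ := Comap.exists_affine_le x 𝓘.support.compl hxs
    refine ⟨V, hxV, 1, one_mem _, ?_⟩
    rw [Ideal.span_singleton_one]
    have hd : Disjoint (Set.range V.1.ι) (𝓘.support : Set X) := by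
      rw [Scheme.Opens.range_ι]
      exact Set.disjoint_left.mpr fun y hy => hle hy
    have := Comap.comap_eq_top_of_disjoint 𝓘 V.1.ι hd
    have h4 := congrArg (fun 𝓚 : V.1.toScheme.IdealSheafData =>
      𝓚.ideal ⟨⊤, isAffineOpen_top _⟩) this
    simp only [Scheme.IdealSheafData.ideal_comap_of_isOpenImmersion] at h4
    have h5 : (1 : Γ(X, V.1.ι ''ᵁ ⊤)) ∈
        𝓘.ideal ⟨V.1.ι ''ᵁ ⊤, (isAffineOpen_top _).image_of_isOpenImmersion _⟩ := by
      have h6 : (1 : Γ(V.1.toScheme, ⊤)) ∈ Ideal.comap (V.1.ι.appIso ⊤).inv.hom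
          (𝓘.ideal ⟨V.1.ι ''ᵁ ⊤, (isAffineOpen_top _).image_of_isOpenImmersion _⟩) := by
        rw [h4]; trivial
      rwa [Ideal.mem_comap, map_one] at h6
    rw [Ideal.eq_top_iff_one]
    have hVle : V.1 ≤ V.1.ι ''ᵁ ⊤ := V.1.ι_image_top.ge
    have h7 := 𝓘.ideal_le_comap_ideal (U := V)
      (V := ⟨V.1.ι ''ᵁ ⊤, (isAffineOpen_top _).image_of_isOpenImmersion _⟩) hVle h5
    rwa [Ideal.mem_comap, map_one] at h7
  obtain ⟨hdom, hufd⟩ := h3 x hxs
  obtain ⟨V, hxV, -⟩ := Comap.exists_affine_le x ⊤ trivial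
  have hN : IsNoetherianRing Γ(X, V.1) := IsLocallyNoetherian.component_noetherian V
  letI := X.presheaf.algebra_section_stalk ⟨x, hxV⟩
  have := V.2.isLocalization_stalk ⟨x, hxV⟩
  set q := (V.2.primeIdealOf ⟨x, hxV⟩).asIdeal with hq
  let I := 𝓘.ideal V
  have := IsLocalization.isNoetherianRing q.primeCompl (X.presheaf.stalk x) hN
  -- every associated prime upstairs has height one
  have hass : ∀ p' ∈ associatedPrimes (X.presheaf.stalk x)
      (X.presheaf.stalk x ⧸ I.map (algebraMap Γ(X, V.1) (X.presheaf.stalk x))),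
      p'.height = 1 := by
    intro p' hp'
    have := hp'.1
    obtain ⟨r, hr⟩ := exists_colon q I hp'
    set p := p'.comap (algebraMap Γ(X, V.1) (X.presheaf.stalk x)) with hpdef
    have : p.IsPrime := Ideal.IsPrime.comap _
    have hdisj : Disjoint (q.primeCompl : Set Γ(X, V.1)) (p : Set Γ(X, V.1)) :=
      ((IsLocalization.isPrime_iff_isPrime_disjoint q.primeCompl _ p').mp inferInstance).2
    have hIp : I ≤ p := fun c hc => (hr c).mpr (I.mul_mem_right r hc)
    -- the corresponding point of the subscheme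
    let W : 𝓘.subscheme.affineOpens := ⟨𝓘.subschemeι ⁻¹ᵁ V.1, V.2.preimage _⟩
    let φ := (𝓘.subschemeι.appLE V.1 W.1 le_rfl).hom
    have hφ : Function.Surjective φ := by
      have := 𝓘.subschemeι_app_surjective V
      rwa [Scheme.Hom.app_eq_appLE] at this
    have hker : RingHom.ker φ = I := by
      have := 𝓘.ker_subschemeι_app V
      rwa [Scheme.Hom.app_eq_appLE] at this
    have : (p.map φ).IsPrime := Ideal.map_isPrime_of_surjective hφ (hker ▸ hIp)
    obtain ⟨z, hzW, hz⟩ := WeakAssSch.exists_point_of_prime W.2 (p.map φ)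
    have hcm : (p.map φ).comap φ = p := by
      rw [Ideal.comap_map_of_surjective _ hφ]
      exact sup_eq_left.mpr (hker.le.trans hIp)
    have hpz : (V.2.primeIdealOf ⟨𝓘.subschemeι z, hzW⟩).asIdeal = p := by
      rw [← IsAffineOpen.comap_primeIdealOf_appLE V.1 V.2 W.1 W.2 le_rfl hzW]
      change Ideal.comap φ _ = p
      rw [hz, hcm]
    have hzass : IsAssociatedPrime (IsLocalRing.maximalIdeal (𝓘.subscheme.presheaf.stalk z))
        (𝓘.subscheme.presheaf.stalk z) := by
      letI := 𝓘.subscheme.presheaf.algebra_section_stalk ⟨z, hzW⟩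
      have hzloc := W.2.isLocalization_stalk ⟨z, hzW⟩
      have hle : IsLocalRing.maximalIdeal (𝓘.subscheme.presheaf.stalk z) ≤
          (⊥ : Ideal (𝓘.subscheme.presheaf.stalk z)).colon
            {algebraMap Γ(𝓘.subscheme, W.1) (𝓘.subscheme.presheaf.stalk z) (φ r)} := by
        rw [← IsLocalization.AtPrime.map_eq_maximalIdeal (W.2.primeIdealOf ⟨z, hzW⟩).asIdeal
          (𝓘.subscheme.presheaf.stalk z), Ideal.map_le_iff_le_comap, hz, Ideal.map_le_iff_le_comap]
        intro c hc
        rw [Ideal.mem_comap, Ideal.mem_comap, Submodule.mem_colon_singleton, Submodule.mem_bot,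
          smul_eq_mul, ← map_mul, ← map_mul, show φ (c * r) = 0 from
            RingHom.mem_ker.mp (hker ▸ (hr c).mp hc), map_zero]
      have hne : algebraMap Γ(𝓘.subscheme, W.1) (𝓘.subscheme.presheaf.stalk z) (φ r) ≠ 0 := by
        intro h0
        obtain ⟨⟨v, hv⟩, hv'⟩ := (IsLocalization.map_eq_zero_iff
          (W.2.primeIdealOf ⟨z, hzW⟩).asIdeal.primeCompl _ _).mp h0
        obtain ⟨v', rfl⟩ := hφ v
        rw [← map_mul, ← RingHom.mem_ker, hker] at hv'
        exact hv (hz ▸ Ideal.mem_map_of_mem φ ((hr v').mpr hv'))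
      have hne_top : (⊥ : Ideal (𝓘.subscheme.presheaf.stalk z)).colon
          {algebraMap Γ(𝓘.subscheme, W.1) (𝓘.subscheme.presheaf.stalk z) (φ r)} ≠ ⊤ := fun h0 => by
        have h1 := (Ideal.eq_top_iff_one _).mp h0
        rw [Submodule.mem_colon_singleton, one_smul, Submodule.mem_bot] at h1
        exact hne h1
      have heq := (IsLocalRing.maximalIdeal.isMaximal (𝓘.subscheme.presheaf.stalk z)).eq_of_le hne_top hle
      refine ⟨inferInstance,
        algebraMap Γ(𝓘.subscheme, W.1) (𝓘.subscheme.presheaf.stalk z) (φ r), ?_⟩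
      rw [← heq]
      exact (Ideal.IsPrime.radical inferInstance).symm
    have hdim := h2 z (h1 z hzass)
    letI := X.presheaf.algebra_section_stalk ⟨𝓘.subschemeι z, hzW⟩
    have := V.2.isLocalization_stalk ⟨𝓘.subschemeι z, hzW⟩
    rw [IsLocalization.AtPrime.ringKrullDim_eq_height
      (V.2.primeIdealOf ⟨𝓘.subschemeι z, hzW⟩).asIdeal (X.presheaf.stalk (𝓘.subschemeι z))] at hdim
    have hh : (V.2.primeIdealOf ⟨𝓘.subschemeι z, hzW⟩).asIdeal.height = p.height := by rw [hpz]
    rw [hh] at hdim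
    rw [← IsLocalization.map_under q.primeCompl (X.presheaf.stalk x) p',
      IsLocalization.height_map_of_disjoint q.primeCompl _ hdisj]
    exact_mod_cast hdim
  obtain ⟨f, hf⟩ := UFD.exists_span_of_assPrimes
      (I.map (algebraMap Γ(X, V.1) (X.presheaf.stalk x))) fun p' hp' => by
    have := hp'.1
    exact UFD.exists_span_of_height_one p' (hass p' hp')
  have hIne : I.map (algebraMap Γ(X, V.1) (X.presheaf.stalk x)) ≠ ⊤ := by
    intro htop
    have hmem : I ≤ q := by
      rw [Scheme.IdealSheafData.mem_support_iff_of_mem hxV] at hxs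
      intro c hc
      by_contra hcq
      have hunit : IsUnit (X.presheaf.germ V.1 x hxV c) :=
        IsLocalization.map_units (X.presheaf.stalk x) (⟨c, hcq⟩ : q.primeCompl)
      rw [Scheme.mem_zeroLocus_iff] at hxs
      exact hxs c hc ((X.mem_basicOpen c x hxV).mpr hunit)
    have h4 := (Ideal.map_mono (f := algebraMap Γ(X, V.1) (X.presheaf.stalk x)) hmem)
    rw [htop, IsLocalization.AtPrime.map_eq_maximalIdeal q] at h4
    exact (IsLocalRing.maximalIdeal.isMaximal _).ne_top (top_le_iff.mp h4)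
  have hf0 : f ≠ 0 := by
    rintro rfl
    have hb : I.map (algebraMap Γ(X, V.1) (X.presheaf.stalk x)) = ⊥ := by rw [hf]; simp
    have := Ideal.Quotient.nontrivial_iff.mpr hIne
    obtain ⟨p', hp'⟩ := associatedPrimes.nonempty (X.presheaf.stalk x)
      (X.presheaf.stalk x ⧸ I.map (algebraMap Γ(X, V.1) (X.presheaf.stalk x)))
    have h0 : p' = ⊥ := by
      obtain ⟨-, y, hy⟩ := isAssociatedPrime_iff.mp hp'
      obtain ⟨y', rfl⟩ := Ideal.Quotient.mk_surjective y
      rw [eq_bot_iff]
      intro l hl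
      rw [hy, Submodule.mem_colon_singleton, Submodule.mem_bot] at hl
      have h5 : l * y' = 0 := by
        have h6 : Ideal.Quotient.mk (I.map (algebraMap Γ(X, V.1) (X.presheaf.stalk x))) (l * y') = 0 :=
          hl
        rw [Ideal.Quotient.eq_zero_iff_mem, hb] at h6
        exact h6
      refine (mul_eq_zero.mp h5).resolve_right fun hy0 => ?_
      subst hy0
      apply hp'.1.ne_top
      rw [hy, Ideal.eq_top_iff_one, Submodule.mem_colon_singleton, one_smul, Submodule.mem_bot,
        map_zero]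
    have := hass p' hp'
    rw [h0, Ideal.height_bot] at this
    exact zero_ne_one this
  -- spread out
  classical
  obtain ⟨⟨a₀, s⟩, hs⟩ := IsLocalization.surj q.primeCompl f
  have ha₀ : algebraMap Γ(X, V.1) (X.presheaf.stalk x) a₀ ∈
      I.map (algebraMap Γ(X, V.1) (X.presheaf.stalk x)) := by
    rw [hf, ← hs, Ideal.mem_span_singleton]
    exact Dvd.intro _ rfl
  obtain ⟨u, hu, hua⟩ :=
    (IsLocalization.algebraMap_mem_map_algebraMap_iff q.primeCompl _ I a₀).mp ha₀
  set a := u * a₀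
  have hspan : I.map (algebraMap Γ(X, V.1) (X.presheaf.stalk x)) =
      Ideal.span {algebraMap Γ(X, V.1) (X.presheaf.stalk x) a} := by
    rw [hf, map_mul, ← hs,
      Ideal.span_singleton_mul_left_unit (IsLocalization.map_units _ (⟨u, hu⟩ : q.primeCompl)),
      Ideal.span_singleton_mul_right_unit (IsLocalization.map_units _ s)]
  have hkey : ∀ c ∈ I, ∃ v ∈ q.primeCompl, v * c ∈ Ideal.span {a} := fun c hc => by
    have h := Ideal.mem_map_of_mem (algebraMap Γ(X, V.1) (X.presheaf.stalk x)) hc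
    rw [hspan, ← Set.image_singleton, ← Ideal.map_span,
      IsLocalization.algebraMap_mem_map_algebraMap_iff q.primeCompl] at h
    exact h
  obtain ⟨G, hG⟩ := IsNoetherian.noetherian I
  choose! v hv hv' using fun c (hc : c ∈ G) => hkey c (hG ▸ Submodule.subset_span hc)
  have hnzd : ∀ c, c * a = 0 → ∃ w ∈ q.primeCompl, w * c = 0 := fun c hc => by
    have h := congrArg (algebraMap Γ(X, V.1) (X.presheaf.stalk x)) hc
    rw [map_mul, map_zero, mul_eq_zero] at h
    rcases h with h | h
    · obtain ⟨⟨w, hw⟩, hw'⟩ := (IsLocalization.map_eq_zero_iff q.primeCompl _ c).mp h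
      exact ⟨w, hw, hw'⟩
    · have h' : Ideal.span {f} = ⊥ := by rw [← hf, hspan]; simp [h]
      exact absurd (Ideal.span_singleton_eq_bot.mp h') hf0
  obtain ⟨H, hH⟩ := IsNoetherian.noetherian ((⊥ : Ideal Γ(X, V.1)).colon {a})
  choose! w hw hw' using fun c (hc : c ∈ H) => hnzd c (by
    have := hH ▸ Submodule.subset_span (R := Γ(X, V.1)) hc
    rwa [SetLike.mem_coe, Submodule.mem_colon_singleton, Submodule.mem_bot, smul_eq_mul] at this)
  set t := (∏ c ∈ G, v c) * ∏ c ∈ H, w c
  have ht : t ∈ q.primeCompl := mul_mem (prod_mem hv) (prod_mem hw)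
  have hxt : x ∈ X.basicOpen t :=
    (X.mem_basicOpen t x hxV).mpr (IsLocalization.map_units _ (⟨t, ht⟩ : q.primeCompl))
  let φ : Γ(X, V.1) →+* Γ(X, (X.affineBasicOpen t).1) :=
    (X.presheaf.map (homOfLE (X.basicOpen_le t)).op).hom
  have htu : IsUnit (φ t) :=
    RingedSpace.isUnit_res_basicOpen X.toLocallyRingedSpace.toRingedSpace t
  refine ⟨X.affineBasicOpen t, hxt, φ a, ?_, ?_⟩
  · rw [mem_nonZeroDivisors_iff_right]
    intro y hy
    letI : Algebra Γ(X, V.1) Γ(X, (X.affineBasicOpen t).1) := φ.toAlgebra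
    have : IsLocalization.Away t Γ(X, (X.affineBasicOpen t).1) := V.2.isLocalization_basicOpen t
    obtain ⟨⟨c, d⟩, hcd⟩ := IsLocalization.surj (Submonoid.powers t) y
    have h : algebraMap Γ(X, V.1) Γ(X, (X.affineBasicOpen t).1) (c * a) = 0 := by
      rw [map_mul, ← hcd, mul_comm y, mul_assoc]
      change _ * (y * φ a) = 0
      rw [hy, mul_zero]
    obtain ⟨⟨_, n, rfl⟩, hn⟩ := (IsLocalization.map_eq_zero_iff (Submonoid.powers t) _ _).mp h
    have hmem : t ^ n * c ∈ (⊥ : Ideal Γ(X, V.1)).colon {a} := by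
      rw [Submodule.mem_colon_singleton, Submodule.mem_bot, smul_eq_mul, mul_assoc]
      exact hn
    have hkill : ∀ z ∈ (⊥ : Ideal Γ(X, V.1)).colon {a}, t * z = 0 := by
      intro z hz
      rw [← hH] at hz
      induction hz using Submodule.span_induction with
      | mem z hz =>
        obtain ⟨d, hd⟩ := Finset.dvd_prod_of_mem w (hz : z ∈ H)
        change ((∏ c ∈ G, v c) * ∏ c ∈ H, w c) * z = 0
        rw [hd,
          show ((∏ c ∈ G, v c) * (w z * d)) * z = (∏ c ∈ G, v c) * d * (w z * z) by ring,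
          hw' z hz, mul_zero]
      | zero => exact mul_zero t
      | add _ _ _ _ h h' => rw [mul_add, h, h', add_zero]
      | smul r _ _ h => rw [smul_eq_mul, mul_left_comm, h, mul_zero]
    have h2 := congrArg φ (hkill _ hmem)
    rw [map_mul φ t, map_mul φ (t ^ n), map_zero, map_pow] at h2
    have h3 : φ c = 0 := ((htu.pow n).mul_right_eq_zero).mp (htu.mul_right_eq_zero.mp h2)
    exact ((IsLocalization.map_units _ d).mul_left_eq_zero).mp (hcd.trans h3)
  · rw [← 𝓘.map_ideal (U := X.affineBasicOpen t) (V := V) (X.basicOpen_le t)]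
    refine le_antisymm ?_ ?_
    · rw [Ideal.map_le_iff_le_comap]
      intro c hc
      have h : t * c ∈ Ideal.span {a} := by
        have hc' : c ∈ Submodule.span Γ(X, V.1) (G : Set Γ(X, V.1)) := hG.symm ▸ hc
        clear hc
        induction hc' using Submodule.span_induction with
        | mem z hz =>
          obtain ⟨d, hd⟩ := Finset.dvd_prod_of_mem v (hz : z ∈ G)
          change ((∏ c ∈ G, v c) * ∏ c ∈ H, w c) * z ∈ _
          rw [hd,
            show (v z * d * ∏ c ∈ H, w c) * z = (d * ∏ c ∈ H, w c) * (v z * z) by ring]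
          exact Ideal.mul_mem_left _ _ (hv' z hz)
        | zero => rw [mul_zero]; exact zero_mem _
        | add p q hp hq h h' =>
          rw [mul_add]
          exact add_mem h h'
        | smul r z hz h =>
          rw [smul_eq_mul, mul_left_comm]
          exact Ideal.mul_mem_left _ r h
      have h2 := Ideal.mem_map_of_mem φ h
      rw [Ideal.map_span, Set.image_singleton, map_mul φ t c] at h2
      exact (Ideal.unit_mul_mem_iff_mem _ htu).mp h2
    · rw [Ideal.span_le, Set.singleton_subset_iff]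
      exact Ideal.mem_map_of_mem φ hua

end Groth.Agent.IdealSh.CodimOne
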