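import Groth.Agent.IdealSh.Comap
import Groth.Prelude.Def_BlowUp2
import Mathlib.RingTheory.Localization.Finiteness
import Mathlib.AlgebraicGeometry.Morphisms.QuasiSeparated

/-!
# Extension of finite type quasi-coherent ideal sheaves
-/

set_option autoImplicit false
set_option maxHeartbeats 400000

universe u

open CategoryTheory CategoryTheory.Limits AlgebraicGeometry TopologicalSpace
open Groth.Agent.IdealSh

namespace Groth.Agent.IdealSh.Extend

variable {X Y : Scheme.{u}}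

/-- Finitely generated on all affine opens inside `W`. -/
def FGOn (𝓘 : X.IdealSheafData) (W : X.Opens) : Prop :=
  ∀ T : X.affineOpens, T.1 ≤ W → (𝓘.ideal T).FG

lemma fgOn_mono {𝓘 : X.IdealSheafData} {W W' : X.Opens} (h : W' ≤ W) (h𝓘 : FGOn 𝓘 W) :
    FGOn 𝓘 W' := fun T hT => h𝓘 T (hT.trans h)

/-- Finite generation is local. -/
lemma fg_of_forall_exists {𝓘 : X.IdealSheafData} (T : X.affineOpens)
    (h : ∀ x ∈ T.1, ∃ f : Γ(X, T.1), x ∈ X.basicOpen f ∧ (𝓘.ideal (X.affineBasicOpen f)).FG) :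
    (𝓘.ideal T).FG := by
  choose f hxf hf using h
  have hspan : Ideal.span (Set.range fun x : T.1 => f x.1 x.2) = ⊤ := by
    rw [← T.2.self_le_iSup_basicOpen_iff]
    intro x hx
    rw [iSup_range', Opens.mem_iSup]
    exact ⟨⟨x, hx⟩, hxf x hx⟩
  refine Ideal.fg_of_localizationSpan _ hspan ?_
  rintro ⟨_, x, rfl⟩
  have := T.2.isLocalization_basicOpen (f x.1 x.2)
  let e := IsLocalization.algEquiv (Submonoid.powers (f x.1 x.2))
    Γ(X, X.basicOpen (f x.1 x.2)) (Localization.Away (f x.1 x.2))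
  have h1 : e.toRingHom.comp (algebraMap Γ(X, T.1) Γ(X, X.basicOpen (f x.1 x.2))) =
      algebraMap Γ(X, T.1) (Localization.Away (f x.1 x.2)) := RingHom.ext e.commutes
  rw [← h1, ← Ideal.map_map]
  refine Ideal.FG.map ?_ _
  rw [RingHom.algebraMap_toAlgebra]
  exact (𝓘.map_ideal_basicOpen T (f x.1 x.2)).symm ▸ hf x.1 x.2

lemma fgOn_sup {𝓘 : X.IdealSheafData} {W W' : X.Opens} (h : FGOn 𝓘 W) (h' : FGOn 𝓘 W') :
    FGOn 𝓘 (W ⊔ W') := fun T hT => fg_of_forall_exists T fun x hx => by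
  rcases hT hx with hW | hW
  · obtain ⟨f, hf, hxf⟩ := T.2.exists_basicOpen_le ⟨x, hW⟩ hx
    exact ⟨f, hxf, h _ hf⟩
  · obtain ⟨f, hf, hxf⟩ := T.2.exists_basicOpen_le ⟨x, hW⟩ hx
    exact ⟨f, hxf, h' _ hf⟩

/-- Membership in a pushed forward ideal. -/
lemma mem_map_iff (j : Y ⟶ X) [QuasiCompact j] (K : Y.IdealSheafData) (T : X.affineOpens)
    (x : Γ(X, T.1)) :
    x ∈ (K.map j).ideal T ↔ ∀ (T' : Y.affineOpens) (e : T'.1 ≤ j ⁻¹ᵁ T.1),
      (j.appLE T.1 T'.1 e).hom x ∈ K.ideal T' := by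
  rw [Scheme.IdealSheafData.map, Scheme.Hom.ker_apply, RingHom.mem_ker]
  change (K.subschemeι.app (j ⁻¹ᵁ T.1)).hom ((j.app T.1).hom x) = 0 ↔ _
  have key : ∀ (T' : Y.affineOpens) (e : T'.1 ≤ j ⁻¹ᵁ T.1),
      (j.appLE T.1 T'.1 e).hom x ∈ K.ideal T' ↔
        (K.subscheme.presheaf.map (homOfLE (K.subschemeι.preimage_mono e)).op).hom
          ((K.subschemeι.app (j ⁻¹ᵁ T.1)).hom ((j.app T.1).hom x)) = 0 := by
    intro T' e
    rw [← K.ker_subschemeι_app, RingHom.mem_ker]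
    change (j.app T.1 ≫ Y.presheaf.map (homOfLE e).op ≫ K.subschemeι.app T'.1) x = 0 ↔ _
    rw [K.subschemeι.naturality]
    rfl
  refine ⟨fun h T' e => (key T' e).mpr (by rw [h, map_zero]), fun h => ?_⟩
  refine TopCat.Presheaf.section_ext K.subscheme.sheaf _ _ _ fun z hz => ?_
  obtain ⟨T', hzT', e⟩ := Comap.exists_affine_le (K.subschemeι z) (j ⁻¹ᵁ T.1) hz
  have h2 := congrArg (K.subscheme.presheaf.germ (K.subschemeι ⁻¹ᵁ T'.1) z hzT')
    ((key T' e).mp (h T' e))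
  rw [TopCat.Presheaf.germ_res_apply, map_zero] at h2
  exact h2.trans (map_zero _).symm

/-- Pushing forward along a quasi-compact open immersion and restricting is the identity. -/
lemma comap_map (j : Y ⟶ X) [IsOpenImmersion j] [QuasiCompact j] (K : Y.IdealSheafData) :
    (K.map j).comap j = K := by
  refine le_antisymm ((Scheme.IdealSheafData.map_gc j).l_u_le K) fun T' y hy => ?_
  rw [Scheme.IdealSheafData.ideal_comap_of_isOpenImmersion, Ideal.mem_comap, mem_map_iff]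
  intro T'' e
  have hle : T''.1 ≤ T'.1 := e.trans (j.preimage_image_eq T'.1).le
  have h1 : (j.appLE (j ''ᵁ T'.1) T''.1 e).hom ((j.appIso T'.1).inv.hom y) =
      (Y.presheaf.map (homOfLE hle).op).hom y := by
    rw [← RingHom.comp_apply, ← CommRingCat.hom_comp, Scheme.Hom.appIso_inv_appLE]
  rw [h1]
  exact K.ideal_le_comap_ideal hle hy

lemma comap_inf (j : Y ⟶ X) [IsOpenImmersion j] (𝓘 𝓙 : X.IdealSheafData) :
    (𝓘 ⊓ 𝓙).comap j = 𝓘.comap j ⊓ 𝓙.comap j := by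
  refine Scheme.IdealSheafData.ext (funext fun T => ?_)
  simp only [Scheme.IdealSheafData.ideal_inf, Pi.inf_apply,
    Scheme.IdealSheafData.ideal_comap_of_isOpenImmersion, Ideal.comap_inf]

/-- The ideal on an affine open inside `W` only depends on the restriction to `W`. -/
lemma ideal_eq_of_comap_eq {𝓘 𝓙 : X.IdealSheafData} {W : X.Opens}
    (h : 𝓘.comap W.ι = 𝓙.comap W.ι) (T : X.affineOpens) (hT : T.1 ≤ W) :
    𝓘.ideal T = 𝓙.ideal T := by
  let T' : W.toScheme.affineOpens := ⟨W.ι ⁻¹ᵁ T.1, T.2.preimage_of_isOpenImmersion _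
    (by rwa [Scheme.Opens.opensRange_ι])⟩
  have e := congrArg (fun 𝓚 : W.toScheme.IdealSheafData => 𝓚.ideal T') h
  simp only [Scheme.IdealSheafData.ideal_comap_of_isOpenImmersion] at e
  have hsurj : Function.Surjective (W.ι.appIso T'.1).inv.hom :=
    (ConcreteCategory.bijective_of_isIso _).2
  have e2 := Ideal.comap_injective_of_surjective _ hsurj e
  have hTT : (⟨W.ι ''ᵁ T'.1, T'.2.image_of_isOpenImmersion W.ι⟩ : X.affineOpens) = T := by
    refine Subtype.ext ?_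
    change W.ι ''ᵁ (W.ι ⁻¹ᵁ T.1) = T.1
    rw [Scheme.Hom.image_preimage_eq_opensRange_inf, Scheme.Opens.opensRange_ι,
      inf_eq_right.mpr hT]
  rw [← hTT]
  exact e2

lemma comap_eq_of_ideal_eq {𝓘 𝓙 : X.IdealSheafData} {W : X.Opens}
    (h : ∀ T : X.affineOpens, T.1 ≤ W → 𝓘.ideal T = 𝓙.ideal T) :
    𝓘.comap W.ι = 𝓙.comap W.ι := by
  refine Scheme.IdealSheafData.ext (funext fun T => ?_)
  rw [Scheme.IdealSheafData.ideal_comap_of_isOpenImmersion,
    Scheme.IdealSheafData.ideal_comap_of_isOpenImmersion, h]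
  exact W.ι.image_le_opensRange _ |>.trans W.opensRange_ι.le

variable [QuasiSeparatedSpace X]

lemma quasiCompact_ι {W : X.Opens} (hW : IsCompact (W : Set X)) : QuasiCompact W.ι := by
  refine ⟨fun T hTo hTc => ?_⟩
  rw [W.ι.isOpenEmbedding.isInducing.isCompact_iff, Set.image_preimage_eq_inter_range,
    Scheme.Opens.range_ι]
  exact QuasiSeparatedSpace.inter_isCompact T W hTo hTc W.2 hW

/-- One step of the extension. -/
lemma step {𝓙 : X.IdealSheafData} {W : X.Opens} (hW : IsCompact (W : Set X))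
    (hfg : FGOn 𝓙 W) (A : X.affineOpens) :
    ∃ 𝓙' : X.IdealSheafData, 𝓙' ≤ 𝓙 ∧ FGOn 𝓙' (W ⊔ A.1) ∧
      ∀ T : X.affineOpens, T.1 ≤ W → 𝓙'.ideal T = 𝓙.ideal T := by
  have hWA : IsCompact ((W ⊓ A.1 : X.Opens) : Set X) := by
    rw [Opens.coe_inf]
    exact QuasiSeparatedSpace.inter_isCompact _ _ W.2 hW A.1.2 A.2.isCompact
  have hcov : ∀ x ∈ W ⊓ A.1, ∃ f : Γ(X, A.1), X.basicOpen f ≤ W ⊓ A.1 ∧ x ∈ X.basicOpen f :=
    fun x hx => A.2.exists_basicOpen_le ⟨x, hx⟩ hx.2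
  choose f hf hxf using hcov
  obtain ⟨s, hs⟩ := hWA.elim_finite_subcover
    (fun x : (W ⊓ A.1 : X.Opens) => (X.basicOpen (f x.1 x.2) : Set X))
    (fun x => (X.basicOpen _).2) fun x hx => Set.mem_iUnion.mpr ⟨⟨x, hx⟩, hxf x hx⟩
  have hgen : ∀ x : (W ⊓ A.1 : X.Opens), ∃ J : Ideal Γ(X, A.1), J.FG ∧ J ≤ 𝓙.ideal A ∧
      J.map (X.presheaf.map (homOfLE (X.basicOpen_le (f x.1 x.2))).op).hom =
        𝓙.ideal (X.affineBasicOpen (f x.1 x.2)) := by
    intro x
    obtain ⟨G, hG⟩ := hfg (X.affineBasicOpen (f x.1 x.2)) ((hf x.1 x.2).trans inf_le_left)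
    let φ := (X.presheaf.map (homOfLE (X.basicOpen_le (f x.1 x.2))).op).hom
    letI : Algebra Γ(X, A.1) Γ(X, (X.affineBasicOpen (f x.1 x.2)).1) := φ.toAlgebra
    have : IsLocalization.Away (f x.1 x.2) Γ(X, (X.affineBasicOpen (f x.1 x.2)).1) :=
      A.2.isLocalization_basicOpen (f x.1 x.2)
    have hmap : (𝓙.ideal A).map φ = 𝓙.ideal (X.affineBasicOpen (f x.1 x.2)) :=
      𝓙.map_ideal_basicOpen A (f x.1 x.2)
    have hG' : ∀ g ∈ G, ∃ a ∈ 𝓙.ideal A, ∃ u : Γ(X, (X.affineBasicOpen (f x.1 x.2)).1),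
        IsUnit u ∧ φ a = g * u := by
      intro g hg
      have hmem : g ∈ (𝓙.ideal A).map φ := by
        rw [hmap, ← hG]; exact Ideal.subset_span hg
      obtain ⟨⟨a, m⟩, ha⟩ := (IsLocalization.mem_map_algebraMap_iff
        (Submonoid.powers (f x.1 x.2)) Γ(X, (X.affineBasicOpen (f x.1 x.2)).1)).mp hmem
      exact ⟨a, a.2, _, IsLocalization.map_units _ m, ha.symm⟩
    choose a ha u hu hau using hG'
    classical
    refine ⟨Ideal.span (Finset.univ.image fun g : G => a g.1 g.2), ⟨_, rfl⟩, ?_, ?_⟩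
    · rw [Ideal.span_le]
      intro y hy
      simp only [Finset.coe_image, Set.mem_image] at hy
      obtain ⟨g, -, rfl⟩ := hy
      exact ha g.1 g.2
    · refine le_antisymm ((Ideal.map_mono ?_).trans hmap.le) ?_
      · rw [Ideal.span_le]
        intro y hy
        simp only [Finset.coe_image, Set.mem_image] at hy
        obtain ⟨g, -, rfl⟩ := hy
        exact ha g.1 g.2
      · rw [← hG]
        refine Submodule.span_le.mpr fun g hg => ?_
        have h1 : φ (a g hg) ∈ Ideal.map φ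
            (Ideal.span (Finset.univ.image fun g : G => a g.1 g.2)) := by
          refine Ideal.mem_map_of_mem _ (Ideal.subset_span ?_)
          simp only [Finset.coe_image, Set.mem_image]
          exact ⟨⟨g, hg⟩, Finset.mem_coe.mpr (Finset.mem_univ _), rfl⟩
        rw [hau g hg] at h1
        exact (Ideal.mul_unit_mem_iff_mem _ (hu g hg)).mp h1
  choose J hJfg hJle hJmap using hgen
  let J₀ : Ideal Γ(X, A.1) := s.sup J
  have hJ₀le : J₀ ≤ 𝓙.ideal A := Finset.sup_le fun x _ => hJle x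
  have hJ₀fg : J₀.FG := Finset.sup_induction (p := fun I : Ideal Γ(X, A.1) => I.FG) Submodule.fg_bot
    (fun _ ha _ hb => Submodule.FG.sup ha hb) fun x _ => hJfg x
  have : IsAffine A.1.toScheme := A.2
  have := quasiCompact_ι A.2.isCompact
  have hle : (⊤ : A.1.toScheme.Opens) ≤ A.1.ι ⁻¹ᵁ A.1 := A.1.ι_preimage_self.ge
  let L := (Scheme.IdealSheafData.ofIdealTop
    (J₀.map (A.1.ι.appLE A.1 ⊤ hle).hom)).map A.1.ι
  have hHaff : IsAffineOpen (A.1.ι ⁻¹ᵁ A.1) := by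
    rw [A.1.ι_preimage_self]; exact isAffineOpen_top _
  have hLA : L.ideal A = J₀ := by
    refine (Scheme.IdealSheafData.ideal_map _ _ A hHaff).trans ?_
    rw [Scheme.IdealSheafData.ofIdealTop_ideal, Ideal.map_map, ← CommRingCat.hom_comp,
      Scheme.Hom.appLE_map, ← Scheme.Hom.app_eq_appLE]
    have : IsIso (A.1.ι.app A.1) := by
      rw [Scheme.Opens.ι_app_self]
      exact Functor.map_isIso _ _
    exact Ideal.comap_map_of_bijective _ (ConcreteCategory.bijective_of_isIso _)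
  have hLT : ∀ T : X.affineOpens, (h : T.1 ≤ A.1) →
      L.ideal T = J₀.map (X.presheaf.map (homOfLE h).op).hom := fun T h => by
    rw [← L.map_ideal (U := T) (V := A) h, hLA]
    rfl
  have hLle : ∀ T : X.affineOpens, T.1 ≤ A.1 → L.ideal T ≤ 𝓙.ideal T := fun T h => by
    rw [hLT T h, ← 𝓙.map_ideal (U := T) (V := A) h]
    exact Ideal.map_mono hJ₀le
  have hLD : ∀ x ∈ s, L.ideal (X.affineBasicOpen (f x.1 x.2)) =
      𝓙.ideal (X.affineBasicOpen (f x.1 x.2)) := fun x hx => by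
    refine le_antisymm (hLle _ (X.basicOpen_le _)) ?_
    rw [← hJmap x, hLT _ (X.basicOpen_le _)]
    exact Ideal.map_mono (Finset.le_sup hx)
  -- inside `W ⊓ A` the two ideal sheaves agree
  have hLW : ∀ T : X.affineOpens, T.1 ≤ W ⊓ A.1 → L.ideal T = 𝓙.ideal T := by
    refine fun T hT => ideal_eq_of_comap_eq ?_ T hT
    let U : s → (W ⊓ A.1).toScheme.affineOpens := fun x =>
      ⟨(W ⊓ A.1).ι ⁻¹ᵁ X.basicOpen (f x.1.1 x.1.2),
        (A.2.basicOpen _).preimage_of_isOpenImmersion _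
          (by rw [Scheme.Opens.opensRange_ι]; exact hf _ _)⟩
    refine Scheme.IdealSheafData.ext_of_iSup_eq_top U ?_ fun x => ?_
    · refine top_le_iff.mp fun y _ => ?_
      obtain ⟨x, hx, hxy⟩ := Set.mem_iUnion₂.mp (hs y.2)
      exact Opens.mem_iSup.mpr ⟨⟨x, hx⟩, hxy⟩
    · have himg : (⟨(W ⊓ A.1).ι ''ᵁ (U x).1, (U x).2.image_of_isOpenImmersion _⟩ :
          X.affineOpens) = X.affineBasicOpen (f x.1.1 x.1.2) := by
        refine Subtype.ext ?_
        change (W ⊓ A.1).ι ''ᵁ ((W ⊓ A.1).ι ⁻¹ᵁ X.basicOpen (f x.1.1 x.1.2)) = _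
        rw [Scheme.Hom.image_preimage_eq_opensRange_inf, Scheme.Opens.opensRange_ι]
        exact inf_eq_right.mpr (hf _ _)
      rw [Scheme.IdealSheafData.ideal_comap_of_isOpenImmersion,
        Scheme.IdealSheafData.ideal_comap_of_isOpenImmersion]
      congr 1
      rw [himg]
      exact hLD x.1 x.2
  have hW' : ∀ T : X.affineOpens, T.1 ≤ W → (𝓙 ⊓ L).ideal T = 𝓙.ideal T := by
    intro T hT
    rw [Scheme.IdealSheafData.ideal_inf, Pi.inf_apply, inf_eq_left]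
    intro x hx
    rw [mem_map_iff]
    intro T' e
    let T'' : X.affineOpens := ⟨A.1.ι ''ᵁ T'.1, T'.2.image_of_isOpenImmersion _⟩
    have h2 : T''.1 ≤ T.1 := by
      rintro _ ⟨y, hy, rfl⟩
      exact e hy
    have h3 : T''.1 ≤ W ⊓ A.1 :=
      le_inf (h2.trans hT) ((A.1.ι.image_le_opensRange _).trans A.1.opensRange_ι.le)
    have h4 : (X.presheaf.map (homOfLE h2).op).hom x ∈ L.ideal T'' := by
      rw [hLW T'' h3]
      exact 𝓙.ideal_le_comap_ideal h2 hx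
    have h5 := (mem_map_iff _ _ _ _).mp h4 T' (A.1.ι.preimage_image_eq _).ge
    change (X.presheaf.map (homOfLE h2).op ≫ A.1.ι.appLE _ _ _) x ∈ _ at h5
    rwa [Scheme.Hom.map_appLE] at h5
  refine ⟨𝓙 ⊓ L, inf_le_left, fgOn_sup (fun T hT => ?_) (fun T hT => ?_), hW'⟩
  · rw [hW' T hT]
    exact hfg T hT
  · rw [Scheme.IdealSheafData.ideal_inf, Pi.inf_apply, inf_eq_right.mpr (hLle T hT), hLT T hT]
    exact hJ₀fg.map _

/-- A quasi-coherent ideal sheaf which is of finite type on a quasi-compact open `W₀` contains a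
finite type ideal sheaf agreeing with it on `W₀`. -/
theorem exists_finiteType [CompactSpace X] {𝓙 : X.IdealSheafData} {W₀ : X.Opens}
    (hW₀ : IsCompact (W₀ : Set X)) (hfg : FGOn 𝓙 W₀) :
    ∃ 𝓙' : X.IdealSheafData, BlowUp.IsFiniteTypeIdeal 𝓙' ∧ 𝓙' ≤ 𝓙 ∧
      ∀ T : X.affineOpens, T.1 ≤ W₀ → 𝓙'.ideal T = 𝓙.ideal T := by
  have key : ∃ 𝓙' : X.IdealSheafData, FGOn 𝓙' (W₀ ⊔ ⊤) ∧ 𝓙' ≤ 𝓙 ∧
      ∀ T : X.affineOpens, T.1 ≤ W₀ → 𝓙'.ideal T = 𝓙.ideal T := by
    refine compact_open_induction_on (P := fun S => ∃ 𝓙' : X.IdealSheafData,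
      FGOn 𝓙' (W₀ ⊔ S) ∧ 𝓙' ≤ 𝓙 ∧ ∀ T : X.affineOpens, T.1 ≤ W₀ → 𝓙'.ideal T = 𝓙.ideal T) ⊤
      (by simpa using isCompact_univ) ⟨𝓙, by simpa using hfg, le_rfl, fun _ _ => rfl⟩ ?_
    rintro S hS A ⟨𝓙', h1, h2, h3⟩
    obtain ⟨𝓙'', h4, h5, h6⟩ := step (W := W₀ ⊔ S)
      (by rw [Opens.coe_sup]; exact hW₀.union hS) h1 A
    refine ⟨𝓙'', by rwa [← sup_assoc], h4.trans h2, fun T hT => ?_⟩
    rw [h6 T (hT.trans le_sup_left), h3 T hT]
  obtain ⟨𝓙', h1, h2, h3⟩ := key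
  exact ⟨𝓙', fun T => h1 T (le_top.trans le_sup_right), h2, h3⟩

omit [QuasiSeparatedSpace X] in
/-- Finite generation inside an open can be checked on the restriction. -/
lemma fgOn_of_comap {𝓘 : X.IdealSheafData} {V : X.Opens}
    (h : BlowUp.IsFiniteTypeIdeal (𝓘.comap V.ι)) : FGOn 𝓘 V := by
  intro T hT
  let T' : V.toScheme.affineOpens := ⟨V.ι ⁻¹ᵁ T.1, T.2.preimage_of_isOpenImmersion _
    (by rwa [Scheme.Opens.opensRange_ι])⟩
  have hTT : (⟨V.ι ''ᵁ T'.1, T'.2.image_of_isOpenImmersion V.ι⟩ : X.affineOpens) = T := by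
    refine Subtype.ext ?_
    change V.ι ''ᵁ (V.ι ⁻¹ᵁ T.1) = T.1
    rw [Scheme.Hom.image_preimage_eq_opensRange_inf, Scheme.Opens.opensRange_ι,
      inf_eq_right.mpr hT]
  rw [← hTT]
  have h1 := (h T').map (V.ι.appIso T'.1).inv.hom
  rwa [Scheme.IdealSheafData.ideal_comap_of_isOpenImmersion,
    Ideal.map_comap_of_surjective _ (ConcreteCategory.bijective_of_isIso _).2] at h1

omit [QuasiSeparatedSpace X] in
lemma ideal_eq_top_of_disjoint {𝓘 : X.IdealSheafData} {U : X.Opens}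
    (h : Disjoint (𝓘.support : Set X) (U : Set X)) (T : X.affineOpens) (hT : T.1 ≤ U) :
    𝓘.ideal T = ⊤ := by
  have h1 : 𝓘.comap U.ι = (⊤ : X.IdealSheafData).comap U.ι := by
    rw [Scheme.IdealSheafData.comap_top]
    exact Comap.comap_eq_top_of_disjoint _ _ (by rw [Scheme.Opens.range_ι]; exact h.symm)
  rw [ideal_eq_of_comap_eq h1 T hT]
  rfl

/-- Extension of a finite type ideal from a quasi-compact open, trivial on another one. -/
theorem exists_extension [CompactSpace X] {U V : X.Opens} (hU : IsCompact (U : Set X))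
    (hV : IsCompact (V : Set X)) {𝓘 : V.toScheme.IdealSheafData}
    (hfg : BlowUp.IsFiniteTypeIdeal 𝓘)
    (hd : Disjoint (𝓘.support : Set V.toScheme) (V.ι ⁻¹ᵁ U : Set V.toScheme)) :
    ∃ 𝓙 : X.IdealSheafData, BlowUp.IsAdmissibleFor U 𝓙 ∧ 𝓙.comap V.ι = 𝓘 := by
  have := quasiCompact_ι hV
  have hcm : (𝓘.map V.ι).comap V.ι = 𝓘 := comap_map _ _
  have hdU : Disjoint ((𝓘.map V.ι).support : Set X) (U : Set X) := by
    rw [Scheme.IdealSheafData.support_map, Closeds.coe_closure]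
    refine Disjoint.closure_left ?_ U.2
    rw [Set.disjoint_left]
    rintro _ ⟨y, hy, rfl⟩ hyU
    exact Set.disjoint_left.mp hd hy hyU
  have hU' : ∀ T : X.affineOpens, T.1 ≤ U → (𝓘.map V.ι).ideal T = ⊤ :=
    ideal_eq_top_of_disjoint hdU
  obtain ⟨𝓙, h1, -, h3⟩ := exists_finiteType (W₀ := U ⊔ V)
    (by rw [Opens.coe_sup]; exact hU.union hV)
    (fgOn_sup (fun T hT => by rw [hU' T hT]; exact ⟨{1}, by simp⟩)
      (fgOn_of_comap (by rw [hcm]; exact hfg)))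
  refine ⟨𝓙, ⟨h1, Set.disjoint_left.mpr fun x hx hxU => ?_⟩, ?_⟩
  · obtain ⟨T, hxT, hT⟩ := Comap.exists_affine_le x U hxU
    rw [SetLike.mem_coe, Scheme.IdealSheafData.mem_support_iff_of_mem hxT,
      h3 T (hT.trans le_sup_left), hU' T hT] at hx
    rw [Scheme.mem_zeroLocus_iff] at hx
    exact hx 1 trivial (by simpa using hxT)
  · rw [comap_eq_of_ideal_eq fun T hT => h3 T (hT.trans le_sup_right), hcm]

end Groth.Agent.IdealSh.Extend
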