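import Groth.Agent.IdealSh.Extend

/-!
# Finite type ideal sheaves: products and inverse images
-/

set_option autoImplicit false

universe u

open CategoryTheory CategoryTheory.Limits AlgebraicGeometry TopologicalSpace

namespace Groth.Agent.IdealSh.FinType

variable {X Y : Scheme.{u}}

lemma top : BlowUp.IsFiniteTypeIdeal (⊤ : X.IdealSheafData) := fun U => by
  rw [Scheme.IdealSheafData.ideal_top, Pi.top_apply]
  exact ⟨{1}, by simp⟩

lemma mul {𝓘 𝓙 : X.IdealSheafData} (h : BlowUp.IsFiniteTypeIdeal 𝓘)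
    (h' : BlowUp.IsFiniteTypeIdeal 𝓙) : BlowUp.IsFiniteTypeIdeal (𝓘 * 𝓙) := fun U => by
  rw [Scheme.IdealSheafData.ideal_mul, Pi.mul_apply]
  exact Submodule.FG.mul (h U) (h' U)

lemma comap {𝓘 : X.IdealSheafData} (f : Y ⟶ X) (h : BlowUp.IsFiniteTypeIdeal 𝓘) :
    BlowUp.IsFiniteTypeIdeal (𝓘.comap f) := fun V => by
  refine Extend.fg_of_forall_exists V fun y hy => ?_
  obtain ⟨U, hyU, -⟩ := Comap.exists_affine_le (f y) ⊤ trivial
  obtain ⟨g, hg, hyg⟩ := V.2.exists_basicOpen_le (V := f ⁻¹ᵁ U.1) ⟨y, hyU⟩ hy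
  refine ⟨g, hyg, ?_⟩
  rw [Comap.ideal_comap 𝓘 f U (Y.affineBasicOpen g) hg]
  exact (h U).map _

lemma admissible_top (U : X.Opens) : BlowUp.IsAdmissibleFor U (⊤ : X.IdealSheafData) :=
  ⟨top, by simp⟩

lemma admissible_mul {U : X.Opens} {𝓘 𝓙 : X.IdealSheafData}
    (h : BlowUp.IsAdmissibleFor U 𝓘) (h' : BlowUp.IsAdmissibleFor U 𝓙) :
    BlowUp.IsAdmissibleFor U (𝓘 * 𝓙) := by
  refine ⟨mul h.1 h'.1, ?_⟩
  rw [Scheme.IdealSheafData.support_mul, Closeds.coe_sup]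
  exact h.2.union_left h'.2

lemma admissible_comap {U : X.Opens} {𝓘 : X.IdealSheafData} (f : Y ⟶ X)
    (h : BlowUp.IsAdmissibleFor U 𝓘) : BlowUp.IsAdmissibleFor (f ⁻¹ᵁ U) (𝓘.comap f) := by
  refine ⟨comap f h.1, ?_⟩
  rw [Scheme.IdealSheafData.support_comap]
  exact Disjoint.preimage f h.2

lemma admissible_prod {ι : Type*} (U : X.Opens) (𝓘 : ι → X.IdealSheafData) (s : Finset ι)
    (h : ∀ i, BlowUp.IsAdmissibleFor U (𝓘 i)) : BlowUp.IsAdmissibleFor U (∏ i ∈ s, 𝓘 i) := by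
  refine Finset.prod_induction _ _ (fun _ _ => admissible_mul) ?_ fun i _ => h i
  rw [Scheme.IdealSheafData.one_eq_top]
  exact admissible_top U

end Groth.Agent.IdealSh.FinType
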