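import Groth.Agent.IdealSh.Regular
import Groth.Agent.LocFlat.Basic
import Mathlib.AlgebraicGeometry.IdealSheaf.Subscheme
import Mathlib.RingTheory.Flat.Stability
import Mathlib.RingTheory.Localization.BaseChange
import Mathlib.RingTheory.Ideal.Quotient.Operations

/-!
# Flatness of closed subschemes over a base; relative effective Cartier divisors
-/

set_option autoImplicit false
set_option maxHeartbeats 400000

universe u

open CategoryTheory AlgebraicGeometry TopologicalSpace TensorProduct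
open Groth.Agent.IdealSh.Comap Groth.Agent.IdealSh.EffCartier

namespace Groth.Agent.IdealSh.RelFlat

section Algebra

variable {R A : Type u} [CommRing R] [CommRing A] [Algebra R A]

/-- Middle and left terms of a short exact sequence with flat cokernel. -/
lemma flat_left_of_exact {M₁ M₂ M₃ : Type u} [AddCommGroup M₁] [Module R M₁] [AddCommGroup M₂]
    [Module R M₂] [AddCommGroup M₃] [Module R M₃] [Module.Flat R M₂] [Module.Flat R M₃]
    (f : M₁ →ₗ[R] M₂) (g : M₂ →ₗ[R] M₃) (hfg : Function.Exact f g) (hg : Function.Surjective g)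
    (hf : Function.Injective f) : Module.Flat R M₁ := by
  refine Module.Flat.iff_rTensor_preserves_injective_linearMap.mpr fun N P _ _ _ _ i hi => ?_
  intro x y hxy
  refine LocFlat.lTensor_injective_of_flat_coker f g hfg hg hf N ?_
  refine Module.Flat.rTensor_preserves_injective_linearMap (M := M₂) i hi ?_
  simp only [← LinearMap.comp_apply, LinearMap.rTensor_comp_lTensor]
  simp only [← LinearMap.lTensor_comp_rTensor, LinearMap.comp_apply, hxy]

lemma flat_middle_of_exact {M₁ M₂ M₃ : Type u} [AddCommGroup M₁] [Module R M₁] [AddCommGroup M₂]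
    [Module R M₂] [AddCommGroup M₃] [Module R M₃] [Module.Flat R M₁] [Module.Flat R M₃]
    (f : M₁ →ₗ[R] M₂) (g : M₂ →ₗ[R] M₃) (hfg : Function.Exact f g) (hg : Function.Surjective g)
    (hf : Function.Injective f) : Module.Flat R M₂ := by
  refine Module.Flat.iff_rTensor_preserves_injective_linearMap.mpr fun N P _ _ _ _ i hi => ?_
  rw [injective_iff_map_eq_zero]
  intro x hx
  have h1 : g.lTensor N x = 0 := by
    refine Module.Flat.rTensor_preserves_injective_linearMap (M := M₃) i hi ?_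
    rw [← LinearMap.comp_apply, LinearMap.rTensor_comp_lTensor, ← LinearMap.lTensor_comp_rTensor,
      LinearMap.comp_apply, hx, map_zero, map_zero]
  obtain ⟨y, rfl⟩ := (lTensor_exact N hfg hg x).mp h1
  rw [← LinearMap.comp_apply, LinearMap.rTensor_comp_lTensor, ← LinearMap.lTensor_comp_rTensor,
    LinearMap.comp_apply] at hx
  have h2 : i.rTensor M₁ y = 0 :=
    LocFlat.lTensor_injective_of_flat_coker f g hfg hg hf P (hx.trans (map_zero _).symm)
  rw [Module.Flat.rTensor_preserves_injective_linearMap (M := M₁) i hi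
    (h2.trans (map_zero _).symm), map_zero]

/-- Multiplication by `a` as a map `A/(b) → A/(ab)`. -/
noncomputable def mulQuot (a b : A) : (A ⧸ Ideal.span {b}) →ₗ[R] A ⧸ Ideal.span {a * b} :=
  (Submodule.mapQ (Ideal.span {b}) (Ideal.span {a * b}) (LinearMap.mulLeft A a) (by
    intro x hx
    obtain ⟨c, rfl⟩ := Ideal.mem_span_singleton'.mp hx
    exact Ideal.mem_span_singleton'.mpr ⟨c, by simp only [LinearMap.mulLeft_apply]; ring⟩)
    ).restrictScalars R

lemma mulQuot_injective {a : A} (ha : a ∈ nonZeroDivisors A) (b : A) :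
    Function.Injective (mulQuot (R := R) a b) := by
  rw [injective_iff_map_eq_zero]
  intro x hx
  obtain ⟨x, rfl⟩ := Ideal.Quotient.mk_surjective x
  replace hx : Ideal.Quotient.mk (Ideal.span {a * b}) (a * x) = 0 := hx
  obtain ⟨c, hc⟩ := Ideal.mem_span_singleton'.mp (Ideal.Quotient.eq_zero_iff_mem.mp hx)
  refine Ideal.Quotient.eq_zero_iff_mem.mpr (Ideal.mem_span_singleton'.mpr ⟨c, ?_⟩)
  exact (mul_cancel_left_mem_nonZeroDivisors ha).mp (by linear_combination hc)

lemma exact_mulQuot (a b : A) :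
    Function.Exact (mulQuot (R := R) a b)
      (Ideal.Quotient.factorₐ R (Ideal.span_singleton_le_span_singleton.mpr (Dvd.intro b rfl) :
        Ideal.span {a * b} ≤ Ideal.span {a})).toLinearMap := by
  intro x
  obtain ⟨x, rfl⟩ := Ideal.Quotient.mk_surjective x
  constructor
  · intro hx
    replace hx : Ideal.Quotient.mk (Ideal.span {a}) x = 0 := hx
    obtain ⟨c, rfl⟩ := Ideal.mem_span_singleton'.mp (Ideal.Quotient.eq_zero_iff_mem.mp hx)
    exact ⟨Ideal.Quotient.mk _ c, congrArg (Ideal.Quotient.mk _) (mul_comm a c)⟩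
  · rintro ⟨y, hy⟩
    obtain ⟨y, rfl⟩ := Ideal.Quotient.mk_surjective y
    rw [← hy]
    exact Ideal.Quotient.eq_zero_iff_mem.mpr (Ideal.mem_span_singleton'.mpr ⟨y, mul_comm y a⟩)

lemma flat_quot_mul {a b : A} (ha : a ∈ nonZeroDivisors A) [Module.Flat R (A ⧸ Ideal.span {a})]
    [Module.Flat R (A ⧸ Ideal.span {b})] : Module.Flat R (A ⧸ Ideal.span {a * b}) :=
  flat_middle_of_exact _ _ (exact_mulQuot a b)
    (Ideal.Quotient.factor_surjective (Ideal.span_singleton_le_span_singleton.mpr (Dvd.intro b rfl)))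
    (mulQuot_injective ha b)

lemma flat_quot_of_mul {a b : A} (ha : a ∈ nonZeroDivisors A)
    [Module.Flat R (A ⧸ Ideal.span {a})] [Module.Flat R (A ⧸ Ideal.span {a * b})] :
    Module.Flat R (A ⧸ Ideal.span {b}) :=
  flat_left_of_exact _ _ (exact_mulQuot a b)
    (Ideal.Quotient.factor_surjective (Ideal.span_singleton_le_span_singleton.mpr (Dvd.intro b rfl)))
    (mulQuot_injective ha b)

/-- `A` is flat over `R` when `A/(e)` and `A[1/e]` are, `e` a nonzerodivisor. -/
lemma flat_of_quot_of_away {e : A} (he : e ∈ nonZeroDivisors A) (Ae : Type u) [CommRing Ae]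
    [Algebra A Ae] [Algebra R Ae] [IsScalarTower R A Ae] [IsLocalization.Away e Ae]
    [Module.Flat R (A ⧸ Ideal.span {e})] [Module.Flat R Ae] : Module.Flat R A := by
  have htf : ∀ (Q : Type u) [AddCommGroup Q] [Module R Q] (n : ℕ),
      Function.Injective (fun z : A ⊗[R] Q => e ^ n • z) := by
    intro Q _ _ n
    have h1 : Function.Injective (fun z : A ⊗[R] Q => e • z) := by
      let μ : A →ₗ[R] A := (LinearMap.mulLeft A e).restrictScalars R
      have hex : Function.Exact μ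
          (Ideal.Quotient.mkₐ R (Ideal.span {e})).toLinearMap := by
        intro x
        constructor
        · intro hx
          obtain ⟨c, hc⟩ := Ideal.mem_span_singleton'.mp (Ideal.Quotient.eq_zero_iff_mem.mp hx)
          exact ⟨c, (mul_comm e c).trans hc⟩
        · rintro ⟨c, rfl⟩
          exact Ideal.Quotient.eq_zero_iff_mem.mpr
            (Ideal.mem_span_singleton'.mpr ⟨c, mul_comm c e⟩)
      have hinj := LocFlat.lTensor_injective_of_flat_coker μ _ hex
        (Ideal.Quotient.mk_surjective) (fun x y h => (mul_cancel_left_mem_nonZeroDivisors he).mp h) Q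
      have key : ∀ z : A ⊗[R] Q, (TensorProduct.comm R A Q) (e • z) =
          μ.lTensor Q ((TensorProduct.comm R A Q) z) := by
        intro z
        induction z using TensorProduct.induction_on with
        | zero => simp
        | tmul a q => simp [μ, TensorProduct.smul_tmul']
        | add x y hx hy => simp only [smul_add, map_add, hx, hy]
      intro x y hxy
      apply (TensorProduct.comm R A Q).injective
      apply hinj
      rw [← key, ← key]
      exact congrArg _ hxy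
    induction n with
    | zero => intro x y h; simpa using h
    | succ n ih =>
      intro x y h
      simp only [pow_succ, mul_smul] at h
      exact h1 (ih h)
  refine Module.Flat.iff_lTensor_preserves_injective_linearMap.mpr fun N P _ _ _ _ i hi => ?_
  rw [injective_iff_map_eq_zero]
  intro x hx
  let γ : ∀ (Q : Type u) [AddCommGroup Q] [Module R Q], A ⊗[R] Q →ₗ[R] Ae ⊗[R] Q :=
    fun Q _ _ => LinearMap.rTensor Q (IsScalarTower.toAlgHom R A Ae).toLinearMap
  have hnat : γ P (i.lTensor A x) = i.lTensor Ae (γ N x) := by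
    simp only [γ, ← LinearMap.comp_apply, LinearMap.rTensor_comp_lTensor,
      LinearMap.lTensor_comp_rTensor]
  rw [hx, map_zero] at hnat
  have h0 : γ N x = 0 :=
    Module.Flat.lTensor_preserves_injective_linearMap (M := Ae) i hi
      (hnat.symm.trans (map_zero _).symm)
  let β : A ⊗[R] N →ₗ[A] Ae ⊗[A] (A ⊗[R] N) := TensorProduct.mk A Ae _ 1
  let c : Ae ⊗[A] (A ⊗[R] N) ≃ₗ[Ae] Ae ⊗[R] N :=
    TensorProduct.AlgebraTensorModule.cancelBaseChange R A Ae Ae N
  have hc : ∀ z, c (β z) = γ N z := by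
    intro z
    induction z using TensorProduct.induction_on with
    | zero => simp
    | tmul a n =>
      simp [β, c, γ, TensorProduct.AlgebraTensorModule.cancelBaseChange_tmul, Algebra.smul_def]
    | add x y hx hy => simp only [map_add, hx, hy]
  have h1 : β x = 0 := c.injective ((hc x).trans (h0.trans (map_zero _).symm))
  obtain ⟨⟨_, n, rfl⟩, hn⟩ :=
    (IsLocalizedModule.eq_zero_iff (Submonoid.powers e) β).mp h1
  exact htf N n (hn.trans (smul_zero _).symm)

end Algebra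

variable {X S : Scheme.{u}}

lemma flat_resLE_of_appLE (f : X ⟶ S) {U : S.Opens} {V : X.Opens} (hU : IsAffineOpen U)
    (hV : IsAffineOpen V) (e : V ≤ f ⁻¹ᵁ U) (h : (f.appLE U V e).hom.Flat) :
    Flat (f.resLE U V e) := by
  have : IsAffine (U : Scheme.{u}) := hU
  have : IsAffine (V : Scheme.{u}) := hV
  have hw : f.resLE U V e ≫ U.ι = V.ι ≫ f := Scheme.Hom.resLE_comp_ι _ _
  have h2 : U.ι.appLE U ⊤ U.ι_preimage_self.ge ≫ (f.resLE U V e).appTop =
      f.appLE U V e ≫ V.ι.appLE V ⊤ V.ι_preimage_self.ge := by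
    have h0 : (f.resLE U V e).appTop = (f.resLE U V e).appLE ⊤ ⊤ le_rfl :=
      Scheme.Hom.app_eq_appLE _
    rw [h0, Scheme.Hom.appLE_comp_appLE, Scheme.Hom.appLE_comp_appLE]
    simp only [hw]
  have h3 : (f.resLE U V e).appTop = inv (U.ι.appLE U ⊤ U.ι_preimage_self.ge) ≫
      f.appLE U V e ≫ V.ι.appLE V ⊤ V.ι_preimage_self.ge := by
    rw [← h2, IsIso.inv_hom_id_assoc]
  rw [HasRingHomProperty.iff_of_isAffine (P := @Flat), h3]
  simp only [CommRingCat.hom_comp]
  exact RingHom.Flat.comp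
    (RingHom.Flat.of_bijective (ConcreteCategory.bijective_of_isIso _))
    (RingHom.Flat.comp h (RingHom.Flat.of_bijective (ConcreteCategory.bijective_of_isIso _)))

/-- Flatness checked on some affine chart around every point. -/
lemma flat_of_forall_exists (f : X ⟶ S)
    (H : ∀ x : X, ∃ (U : S.Opens) (V : X.Opens) (e : V ≤ f ⁻¹ᵁ U), IsAffineOpen U ∧ IsAffineOpen V ∧
      x ∈ V ∧ (f.appLE U V e).hom.Flat) : Flat f := by
  choose U V e hU hV hx h using H
  refine (IsZariskiLocalAtSource.iff_of_openCover (P := @Flat)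
    (X.openCoverOfIsOpenCover V
      (top_unique fun x _ => Opens.mem_iSup.mpr ⟨x, hx x⟩))).mpr fun i => ?_
  change Flat ((V i).ι ≫ f)
  rw [← Scheme.Hom.resLE_comp_ι f (e i)]
  have := flat_resLE_of_appLE f (hU i) (hV i) (e i) (h i)
  infer_instance

lemma flat_quot_of_flat_subscheme (f : X ⟶ S) (𝓘 : X.IdealSheafData)
    [Flat (𝓘.subschemeι ≫ f)] (U : S.affineOpens) (V : X.affineOpens) (e : V.1 ≤ f ⁻¹ᵁ U.1) :
    ((Ideal.Quotient.mk (𝓘.ideal V)).comp (f.appLE U V e).hom).Flat := by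
  have h := (𝓘.subschemeι ≫ f).flat_appLE U.2 (V.2.preimage 𝓘.subschemeι)
    (e := fun x hx => e hx)
  have h2 : (𝓘.subschemeι ≫ f).appLE U.1 (𝓘.subschemeι ⁻¹ᵁ V.1) (fun x hx => e hx) =
      f.appLE U.1 V.1 e ≫ CommRingCat.ofHom (Ideal.Quotient.mk (𝓘.ideal V)) ≫
        (𝓘.subschemeObjIso V).inv := by
    rw [← 𝓘.subschemeι_app V, Scheme.Hom.app_eq_appLE, Scheme.Hom.appLE_comp_appLE]
  rw [h2] at h
  have h3 : f.appLE U.1 V.1 e ≫ CommRingCat.ofHom (Ideal.Quotient.mk (𝓘.ideal V)) =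
      (f.appLE U.1 V.1 e ≫ CommRingCat.ofHom (Ideal.Quotient.mk (𝓘.ideal V)) ≫
        (𝓘.subschemeObjIso V).inv) ≫ (𝓘.subschemeObjIso V).hom := by simp
  have h4 : (f.appLE U.1 V.1 e ≫ CommRingCat.ofHom (Ideal.Quotient.mk (𝓘.ideal V))).hom.Flat := by
    rw [h3, CommRingCat.hom_comp]
    exact RingHom.Flat.comp h
      (RingHom.Flat.of_bijective (ConcreteCategory.bijective_of_isIso _))
  exact h4

/-- Flatness of a closed subscheme, from charts around each of its points. -/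
lemma flat_subscheme_of_forall (f : X ⟶ S) (𝓘 : X.IdealSheafData)
    (H : ∀ x : X, x ∈ 𝓘.support → ∃ (U : S.affineOpens) (V : X.affineOpens) (e : V.1 ≤ f ⁻¹ᵁ U.1),
      x ∈ V.1 ∧ ((Ideal.Quotient.mk (𝓘.ideal V)).comp (f.appLE U V e).hom).Flat) :
    Flat (𝓘.subschemeι ≫ f) := by
  refine flat_of_forall_exists _ fun d => ?_
  obtain ⟨U, V, e, hx, h⟩ := H (𝓘.subschemeι d) (by
    rw [← SetLike.mem_coe, ← Scheme.IdealSheafData.range_subschemeι]; exact ⟨d, rfl⟩)
  refine ⟨U.1, 𝓘.subschemeι ⁻¹ᵁ V.1, fun x hx => e hx, U.2, V.2.preimage 𝓘.subschemeι, hx, ?_⟩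
  have h2 : (𝓘.subschemeι ≫ f).appLE U.1 (𝓘.subschemeι ⁻¹ᵁ V.1) (fun x hx => e hx) =
      f.appLE U.1 V.1 e ≫ CommRingCat.ofHom (Ideal.Quotient.mk (𝓘.ideal V)) ≫
        (𝓘.subschemeObjIso V).inv := by
    rw [← 𝓘.subschemeι_app V, Scheme.Hom.app_eq_appLE, Scheme.Hom.appLE_comp_appLE]
  rw [h2]
  change RingHom.Flat ((𝓘.subschemeObjIso V).inv.hom.comp
    ((Ideal.Quotient.mk (𝓘.ideal V)).comp (f.appLE U.1 V.1 e).hom))
  exact RingHom.Flat.comp h (RingHom.Flat.of_bijective (ConcreteCategory.bijective_of_isIso _))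

lemma flat_mul (f : X ⟶ S) {𝓘₁ 𝓘₂ : X.IdealSheafData} (h₁ : BlowUp.IsEffCartierIdeal 𝓘₁)
    (h₂ : BlowUp.IsEffCartierIdeal 𝓘₂) [Flat (𝓘₁.subschemeι ≫ f)] [Flat (𝓘₂.subschemeι ≫ f)] :
    Flat ((𝓘₁ * 𝓘₂).subschemeι ≫ f) := by
  refine flat_subscheme_of_forall f _ fun x _ => ?_
  obtain ⟨U, hU, -⟩ := exists_affine_le (f x) ⊤ trivial
  obtain ⟨V, hxV, hle, a, b, ha, hb, ea, eb⟩ := exists_equation₂ h₁ h₂ x (f ⁻¹ᵁ U.1) hU
  refine ⟨U, V, hle, hxV, ?_⟩
  algebraize [(f.appLE U.1 V.1 hle).hom]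
  have i₁ := flat_quot_of_flat_subscheme f 𝓘₁ U V hle
  have i₂ := flat_quot_of_flat_subscheme f 𝓘₂ U V hle
  have e3 : (𝓘₁ * 𝓘₂).ideal V = Ideal.span {a * b} := by
    simp [ea, eb, Ideal.span_singleton_mul_span_singleton]
  rw [ea] at i₁
  rw [eb] at i₂
  rw [e3]
  have : Module.Flat Γ(S, U.1) (Γ(X, V.1) ⧸ Ideal.span {a}) := RingHom.flat_algebraMap_iff.mp i₁
  have : Module.Flat Γ(S, U.1) (Γ(X, V.1) ⧸ Ideal.span {b}) := RingHom.flat_algebraMap_iff.mp i₂
  exact RingHom.flat_algebraMap_iff.mpr (flat_quot_mul (R := Γ(S, U.1)) (b := b) ha)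

lemma flat_difference (f : X ⟶ S) {𝓘₁ 𝓘 : X.IdealSheafData} (h₁ : BlowUp.IsEffCartierIdeal 𝓘₁)
    (h : BlowUp.IsEffCartierIdeal 𝓘) [Flat (𝓘₁.subschemeι ≫ f)]
    [Flat ((𝓘₁ * 𝓘).subschemeι ≫ f)] : Flat (𝓘.subschemeι ≫ f) := by
  refine flat_subscheme_of_forall f _ fun x _ => ?_
  obtain ⟨U, hU, -⟩ := exists_affine_le (f x) ⊤ trivial
  obtain ⟨V, hxV, hle, a, b, ha, hb, ea, eb⟩ := exists_equation₂ h₁ h x (f ⁻¹ᵁ U.1) hU
  refine ⟨U, V, hle, hxV, ?_⟩
  algebraize [(f.appLE U.1 V.1 hle).hom]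
  have i₁ := flat_quot_of_flat_subscheme f 𝓘₁ U V hle
  have i₂ := flat_quot_of_flat_subscheme f (𝓘₁ * 𝓘) U V hle
  have e3 : (𝓘₁ * 𝓘).ideal V = Ideal.span {a * b} := by
    simp [ea, eb, Ideal.span_singleton_mul_span_singleton]
  rw [ea] at i₁
  rw [e3] at i₂
  rw [eb]
  have : Module.Flat Γ(S, U.1) (Γ(X, V.1) ⧸ Ideal.span {a}) := RingHom.flat_algebraMap_iff.mp i₁
  have : Module.Flat Γ(S, U.1) (Γ(X, V.1) ⧸ Ideal.span {a * b}) :=
    RingHom.flat_algebraMap_iff.mp i₂
  exact RingHom.flat_algebraMap_iff.mpr (flat_quot_of_mul (R := Γ(S, U.1)) (b := b) ha)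

lemma flat_of_flat_off (f : X ⟶ S) {𝓘 : X.IdealSheafData} (hD : BlowUp.IsEffCartierIdeal 𝓘)
    [Flat (𝓘.subschemeι ≫ f)] (hflat : ∀ x : X, x ∉ 𝓘.support → (f.stalkMap x).hom.Flat) :
    Flat f := by
  refine flat_of_forall_exists f fun x => ?_
  obtain ⟨U, hU, -⟩ := exists_affine_le (f x) ⊤ trivial
  obtain ⟨V, hxV, hle, a, ha, ea⟩ := exists_equation hD x (f ⁻¹ᵁ U.1) hU
  refine ⟨U.1, V.1, hle, U.2, V.2, hxV, ?_⟩
  have hWflat : Flat ((X.basicOpen a).ι ≫ f) := by
    refine Flat.of_stalkMap _ fun y => ?_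
    rw [Scheme.Hom.stalkMap_comp]
    refine RingHom.Flat.comp (hflat _ fun hy => ?_) (Flat.stalkMap _ y)
    have hy' : ((X.basicOpen a).ι y : X) ∈ (X.basicOpen a : Set X) := y.2
    rw [Regular.basicOpen_eq_compl_support ea] at hy'
    exact hy'.2 hy
  have h1 := Regular.flat_appLE_of_flat_ι f U.2 (V.2.basicOpen a)
    ((X.basicOpen_le a).trans hle)
  have i := flat_quot_of_flat_subscheme f 𝓘 U V hle
  rw [ea] at i
  letI : Algebra Γ(X, V.1) Γ(X, X.basicOpen a) :=
    (X.presheaf.map (homOfLE (X.basicOpen_le a)).op).hom.toAlgebra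
  have : IsLocalization.Away a Γ(X, X.basicOpen a) := V.2.isLocalization_basicOpen a
  algebraize [(f.appLE U.1 V.1 hle).hom]
  letI : Algebra Γ(S, U.1) Γ(X, X.basicOpen a) :=
    (f.appLE U.1 (X.basicOpen a) ((X.basicOpen_le a).trans hle)).hom.toAlgebra
  have : IsScalarTower Γ(S, U.1) Γ(X, V.1) Γ(X, X.basicOpen a) :=
    IsScalarTower.of_algebraMap_eq' (by
      change (f.appLE U.1 (X.basicOpen a) _).hom =
        (X.presheaf.map _).hom.comp (f.appLE U.1 V.1 hle).hom
      rw [← CommRingCat.hom_comp, Scheme.Hom.appLE_map])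
  have : Module.Flat Γ(S, U.1) (Γ(X, V.1) ⧸ Ideal.span {a}) := RingHom.flat_algebraMap_iff.mp i
  have : Module.Flat Γ(S, U.1) Γ(X, X.basicOpen a) := RingHom.flat_algebraMap_iff.mp h1
  exact RingHom.flat_algebraMap_iff.mpr (flat_of_quot_of_away ha Γ(X, X.basicOpen a))

end Groth.Agent.IdealSh.RelFlat
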