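import Groth.Prelude.Def_IntMult
import Groth.Prelude.Def_BlowUp2
import Groth.Agent.IdealSh.Comap
import Mathlib.AlgebraicGeometry.Noetherian
import Mathlib.AlgebraicGeometry.Properties
import Mathlib.RingTheory.Filtration

/-!
# Stalks of ideal sheaves
-/

universe u

open CategoryTheory AlgebraicGeometry TopologicalSpace Opposite

noncomputable section

namespace Groth.Agent.IdealSh

open IntMult (stalkIdeal)
open Groth.Agent.IdealSh.Comap

variable {X : Scheme.{u}}

/-- The stalk ideal may be computed on any affine neighbourhood. -/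
lemma stalkIdeal_eq (I : X.IdealSheafData) {x : X} (U : X.affineOpens) (hx : x ∈ U.1) :
    stalkIdeal I x = (I.ideal U).map (X.presheaf.germ U.1 x hx).hom := by
  refine le_antisymm (iSup₂_le fun V hxV => ?_) (le_iSup₂_of_le U hx le_rfl)
  obtain ⟨W, hxW, hW⟩ := exists_affine_le x (U.1 ⊓ V.1) ⟨hx, hxV⟩
  have key : ∀ (U : X.affineOpens) (hx : x ∈ U.1) (h : W ≤ U),
      (I.ideal W).map (X.presheaf.germ W.1 x hxW).hom = (I.ideal U).map (X.presheaf.germ U.1 x hx).hom := by
    intro U hx h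
    rw [← I.map_ideal h, Ideal.map_map, ← CommRingCat.hom_comp]
    exact congrArg (fun φ => (I.ideal U).map (CommRingCat.Hom.hom φ))
      (X.presheaf.germ_res (homOfLE (h : W.1 ≤ U.1)) x hxW)
  rw [← key V hxV (hW.trans inf_le_right), key U hx (hW.trans inf_le_left)]

lemma stalkIdeal_mul (I J : X.IdealSheafData) (x : X) :
    stalkIdeal (I * J) x = stalkIdeal I x * stalkIdeal J x := by
  obtain ⟨U, hx, -⟩ := exists_affine_le x ⊤ trivial
  rw [stalkIdeal_eq _ U hx, stalkIdeal_eq _ U hx, stalkIdeal_eq _ U hx,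
    Scheme.IdealSheafData.ideal_mul, Pi.mul_apply, Ideal.map_mul]

lemma stalkIdeal_top (x : X) : stalkIdeal (⊤ : X.IdealSheafData) x = ⊤ := by
  obtain ⟨U, hx, -⟩ := exists_affine_le x ⊤ trivial
  rw [stalkIdeal_eq _ U hx, Scheme.IdealSheafData.ideal_top]
  exact Ideal.map_top _

lemma stalkIdeal_pow (I : X.IdealSheafData) (x : X) (n : ℕ) :
    stalkIdeal (I ^ n) x = stalkIdeal I x ^ n := by
  obtain ⟨U, hx, -⟩ := exists_affine_le x ⊤ trivial
  rw [stalkIdeal_eq _ U hx, stalkIdeal_eq _ U hx, Scheme.IdealSheafData.ideal_pow, Pi.pow_apply,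
    Ideal.map_pow]

/-- An ideal sheaf is the unit ideal at a point outside of its support. -/
lemma stalkIdeal_eq_top_iff (I : X.IdealSheafData) (x : X) :
    stalkIdeal I x = ⊤ ↔ x ∉ I.support := by
  obtain ⟨U, hx, -⟩ := exists_affine_le x ⊤ trivial
  rw [stalkIdeal_eq _ U hx, Scheme.IdealSheafData.mem_support_iff_of_mem hx]
  simp only [Scheme.mem_zeroLocus_iff, Scheme.mem_basicOpen _ _ x hx]
  constructor
  · intro htop hall
    have hle : (I.ideal U).map (X.presheaf.germ U.1 x hx).hom ≤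
        IsLocalRing.maximalIdeal (X.presheaf.stalk x) :=
      Ideal.map_le_iff_le_comap.mpr fun a ha => hall a ha
    rw [htop, top_le_iff] at hle
    exact (IsLocalRing.maximalIdeal.isMaximal _).ne_top hle
  · intro h
    push Not at h
    obtain ⟨a, ha, hu⟩ := h
    exact Ideal.eq_top_of_isUnit_mem _ (Ideal.mem_map_of_mem _ ha) hu

/-- Two ideal sheaves of finite type with the same stalk agree nearby. -/
lemma exists_affine_ideal_eq [IsLocallyNoetherian X] (I J : X.IdealSheafData) (x : X)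
    (h : stalkIdeal I x = stalkIdeal J x) :
    ∃ W : X.affineOpens, x ∈ W.1 ∧ I.ideal W = J.ideal W := by
  obtain ⟨U, hx, -⟩ := exists_affine_le x ⊤ trivial
  haveI := IsLocallyNoetherian.component_noetherian U
  letI := TopCat.Presheaf.algebra_section_stalk X.presheaf (⟨x, hx⟩ : U.1)
  haveI : IsLocalization.AtPrime (X.presheaf.stalk x) (U.2.primeIdealOf ⟨x, hx⟩).asIdeal :=
    U.2.isLocalization_stalk ⟨x, hx⟩
  rw [stalkIdeal_eq _ U hx, stalkIdeal_eq _ U hx] at h
  set p := (U.2.primeIdealOf ⟨x, hx⟩).asIdeal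
  have key : ∀ I J : Ideal Γ(X, U.1),
      I.map (X.presheaf.germ U.1 x hx).hom ≤ J.map (X.presheaf.germ U.1 x hx).hom →
      ∃ s ∉ p, ∀ a ∈ I, s * a ∈ J := by
    intro I J hIJ
    obtain ⟨G, hG⟩ := IsNoetherian.noetherian I
    have : ∀ a : Γ(X, U.1), a ∈ I → ∃ s ∉ p, s * a ∈ J := fun a ha => by
      have := hIJ (Ideal.mem_map_of_mem _ ha)
      obtain ⟨s, hs, hsa⟩ := (IsLocalization.algebraMap_mem_map_algebraMap_iff p.primeCompl
        (X.presheaf.stalk x) J a).mp this
      exact ⟨s, hs, hsa⟩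
    choose! s hs hsa using this
    refine ⟨∏ g ∈ G, s g, fun hmem => ?_, fun a ha => ?_⟩
    · obtain ⟨g, hg, hgp⟩ := (Ideal.IsPrime.prod_mem_iff).mp hmem
      exact hs g (hG ▸ Ideal.subset_span hg) hgp
    · rw [← hG] at ha
      induction ha using Submodule.span_induction with
      | mem g hg =>
        exact Ideal.mem_of_dvd _ (mul_dvd_mul_right (Finset.dvd_prod_of_mem s hg) g)
          (hsa g (hG ▸ Ideal.subset_span hg))
      | zero => rw [mul_zero]; exact zero_mem _
      | add a b _ _ ha hb => rw [mul_add]; exact add_mem ha hb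
      | smul r a _ ha => rw [smul_eq_mul, mul_left_comm]; exact J.mul_mem_left r ha
  obtain ⟨s, hs, hs'⟩ := key _ _ h.le
  obtain ⟨t, ht, ht'⟩ := key _ _ h.ge
  refine ⟨X.affineBasicOpen (s * t), ?_, ?_⟩
  · have h1 : U.2.primeIdealOf ⟨x, hx⟩ ∈ PrimeSpectrum.basicOpen (s * t) := fun hm =>
      ((U.2.primeIdealOf ⟨x, hx⟩).isPrime.mem_or_mem hm).elim hs ht
    rw [← U.2.fromSpec_preimage_basicOpen] at h1
    have h2 : U.2.fromSpec (U.2.primeIdealOf ⟨x, hx⟩) ∈ X.basicOpen (s * t) := h1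
    rwa [U.2.fromSpec_primeIdealOf] at h2
  · rw [← I.map_ideal_basicOpen U (s * t), ← J.map_ideal_basicOpen U (s * t)]
    have hu := RingedSpace.isUnit_res_basicOpen _ (s * t)
    refine le_antisymm (Ideal.map_le_iff_le_comap.mpr fun a ha => ?_)
      (Ideal.map_le_iff_le_comap.mpr fun a ha => ?_)
    · rw [Ideal.mem_comap]
      refine (Ideal.unit_mul_mem_iff_mem _ hu).mp ?_
      refine (map_mul (X.presheaf.map _).hom _ a) ▸ ?_
      refine Ideal.mem_map_of_mem _ ?_
      rw [mul_comm s t, mul_assoc]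
      exact Ideal.mul_mem_left _ _ (hs' a ha)
    · rw [Ideal.mem_comap]
      refine (Ideal.unit_mul_mem_iff_mem _ hu).mp ?_
      refine (map_mul (X.presheaf.map _).hom _ a) ▸ ?_
      refine Ideal.mem_map_of_mem _ ?_
      rw [mul_assoc]
      exact Ideal.mul_mem_left _ _ (ht' a ha)

/-- The open locus where two ideal sheaves agree. -/
lemma exists_opens_comap_eq [IsLocallyNoetherian X] (I J : X.IdealSheafData) :
    ∃ U : X.Opens, I.comap U.ι = J.comap U.ι ∧ ∀ x, stalkIdeal I x = stalkIdeal J x → x ∈ U := by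
  refine ⟨⨆ W : {W : X.affineOpens // I.ideal W = J.ideal W}, W.1.1, ?_, fun x hx => ?_⟩
  · refine ext_of_forall_exists _ _ fun y => ?_
    obtain ⟨⟨W, hW⟩, hyW⟩ := Opens.mem_iSup.mp y.2
    obtain ⟨V, hyV, hV⟩ := exists_affine_le y (Scheme.Opens.ι _ ⁻¹ᵁ W.1) hyW
    exact ⟨V, hyV, by rw [ideal_comap _ _ W V hV, ideal_comap _ _ W V hV, hW]⟩
  · obtain ⟨W, hxW, hW⟩ := exists_affine_ideal_eq I J x hx
    exact Opens.mem_iSup.mpr ⟨⟨W, hW⟩, hxW⟩

end Groth.Agent.IdealSh

end
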