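import Groth.Agent.IdealSh.Stalk
import Groth.Agent.IdealSh.EffCartier
import Mathlib.RingTheory.Ideal.MinimalPrime.Localization
import Mathlib.RingTheory.Ideal.KrullsHeightTheorem
import Mathlib.Data.Finsupp.Indicator

/-!
# The divisorial part of a closed subscheme
-/

universe u

open CategoryTheory AlgebraicGeometry TopologicalSpace Opposite Order

noncomputable section

namespace Groth.Agent.IdealSh

open IntMult (stalkIdeal)
open Groth.Agent.IdealSh.Comap

section Algebra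

variable {A : Type*} [CommRing A]

/-- A prime nonzerodivisor cancels from a product with an element outside it. -/
lemma dvd_pow_of_mul {f s : A} (hf : f ∈ nonZeroDivisors A) (hp : (Ideal.span {f}).IsPrime)
    (hs : s ∉ Ideal.span {f}) : ∀ (a : ℕ) {g : A}, f ^ a ∣ s * g → f ^ a ∣ g
  | 0, g, _ => by simp
  | a + 1, g, h => by
    have h1 : g ∈ Ideal.span {f} := (hp.mem_or_mem (Ideal.mem_span_singleton.mpr
      ((dvd_pow_self f a.succ_ne_zero).trans h))).resolve_left hs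
    obtain ⟨g', rfl⟩ := Ideal.mem_span_singleton'.mp h1
    obtain ⟨c, hc⟩ := h
    have h2 : s * g' = f ^ a * c := mul_cancel_right_mem_nonZeroDivisors hf |>.mp
      (by rw [mul_assoc, hc, pow_succ]; ring)
    rw [pow_succ]
    exact mul_dvd_mul_right (dvd_pow_of_mul hf hp hs a ⟨c, h2⟩) f

/-- A nonzero ideal of a Noetherian local ring with principal maximal ideal is a power of it. -/
lemma exists_eq_pow [IsNoetherianRing A] [IsLocalRing A]
    (hm : (IsLocalRing.maximalIdeal A).IsPrincipal) (J : Ideal A) (hJ : J ≠ ⊥) :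
    ∃ n : ℕ, J = IsLocalRing.maximalIdeal A ^ n := by
  obtain ⟨f, hf⟩ := hm
  set m := IsLocalRing.maximalIdeal A
  have hinf : ⨅ i : ℕ, m ^ i = ⊥ := Ideal.iInf_pow_eq_bot_of_isLocalRing m (IsLocalRing.maximalIdeal.isMaximal A).ne_top
  have hex : ∃ n, ¬ J ≤ m ^ n := by
    by_contra h
    push Not at h
    exact hJ (le_bot_iff.mp (hinf ▸ le_iInf h))
  classical
  obtain ⟨n, hn⟩ : ∃ n, Nat.find hex = n + 1 := ⟨Nat.find hex - 1, (Nat.succ_pred_eq_of_pos
    (Nat.pos_of_ne_zero fun h0 => Nat.find_spec hex (by rw [h0, pow_zero, Ideal.one_eq_top]; exact le_top))).symm⟩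
  have hle : J ≤ m ^ n := not_not.mp (Nat.find_min hex (by omega))
  have hnot : ¬ J ≤ m ^ (n + 1) := hn ▸ Nat.find_spec hex
  obtain ⟨g, hgJ, hg⟩ := SetLike.not_le_iff_exists.mp hnot
  refine ⟨n, le_antisymm hle ?_⟩
  have hm' : ∀ k, m ^ k = Ideal.span {f ^ k} := fun k => by
    rw [hf, Ideal.submodule_span_eq, Ideal.span_singleton_pow]
  obtain ⟨c, rfl⟩ := Ideal.mem_span_singleton'.mp (hm' n ▸ hle hgJ)
  have hu : IsUnit c := by
    by_contra hc
    refine hg ?_
    obtain ⟨c', rfl⟩ : f ∣ c := by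
      rw [← Ideal.mem_span_singleton, ← pow_one f, ← hm', pow_one]
      exact (IsLocalRing.mem_maximalIdeal c).mpr hc
    rw [hm', Ideal.mem_span_singleton, pow_succ]
    exact ⟨c', by ring⟩
  rw [hm', Ideal.span_singleton_le_iff_mem]
  exact (Ideal.unit_mul_mem_iff_mem J hu).mp hgJ

end Algebra

variable {X : Scheme.{u}}

/-- An equation of an effective Cartier divisor with integral subscheme generates a prime ideal. -/
lemma isPrime_ideal (𝓓 : X.IdealSheafData) [IsIntegral 𝓓.subscheme] (U : X.affineOpens) {x : X}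
    (hx : x ∈ U.1) (hxD : x ∈ 𝓓.support) : (𝓓.ideal U).IsPrime := by
  obtain ⟨y, rfl⟩ : x ∈ Set.range 𝓓.subschemeι := by rw [Scheme.IdealSheafData.range_subschemeι]; exact hxD
  haveI : Nonempty (𝓓.subschemeι ⁻¹ᵁ U.1) := ⟨⟨y, hx⟩⟩
  rw [← 𝓓.ker_subschemeι_app U]
  exact RingHom.ker_isPrime _

variable (𝓓 : X.IdealSheafData) [IsIntegral 𝓓.subscheme]

/-- The generic point of an integral closed subscheme. -/
abbrev gen : X := 𝓓.subschemeι (genericPoint 𝓓.subscheme)

lemma gen_mem : gen 𝓓 ∈ 𝓓.support := by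
  have : gen 𝓓 ∈ Set.range 𝓓.subschemeι := ⟨_, rfl⟩
  rwa [Scheme.IdealSheafData.range_subschemeι] at this

lemma gen_specializes {x : X} (hx : x ∈ 𝓓.support) : gen 𝓓 ⤳ x := by
  obtain ⟨y, rfl⟩ : x ∈ Set.range 𝓓.subschemeι := by rw [Scheme.IdealSheafData.range_subschemeι]; exact hx
  exact ((genericPoint_spec _).specializes trivial).map 𝓓.subschemeι.continuous

/-- The prime of the generic point is the ideal of the subscheme. -/
lemma primeIdealOf_gen (U : X.affineOpens) (hU : gen 𝓓 ∈ U.1) :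
    (U.2.primeIdealOf ⟨gen 𝓓, hU⟩).asIdeal = 𝓓.ideal U := by
  have hP := isPrime_ideal 𝓓 U hU (gen_mem 𝓓)
  set q := U.2.primeIdealOf ⟨gen 𝓓, hU⟩
  have hq : 𝓓.ideal U ≤ q.asIdeal := by
    have h := (Scheme.IdealSheafData.mem_support_iff_of_mem hU).mp (gen_mem 𝓓)
    intro a ha
    by_contra hne
    have h1 : q ∈ PrimeSpectrum.basicOpen a := hne
    rw [← U.2.fromSpec_preimage_basicOpen] at h1
    have h2 : U.2.fromSpec q ∈ X.basicOpen a := h1
    rw [U.2.fromSpec_primeIdealOf] at h2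
    exact (Scheme.mem_zeroLocus_iff _ _ _).mp h a ha h2
  refine le_antisymm ?_ hq
  let p : PrimeSpectrum Γ(X, U.1) := ⟨𝓓.ideal U, hP⟩
  have hpU : U.2.fromSpec p ∈ U.1 := U.2.range_fromSpec.le ⟨p, rfl⟩
  have hpD : U.2.fromSpec p ∈ 𝓓.support := by
    rw [Scheme.IdealSheafData.mem_support_iff_of_mem hpU, Scheme.mem_zeroLocus_iff]
    intro a ha h
    have : p ∈ U.2.fromSpec ⁻¹ᵁ X.basicOpen a := h
    rw [U.2.fromSpec_preimage_basicOpen] at this
    exact this ha
  have hs := gen_specializes 𝓓 hpD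
  replace hs : U.2.fromSpec q ⤳ U.2.fromSpec p := by
    rw [U.2.fromSpec_primeIdealOf]
    exact hs
  rw [U.2.fromSpec.isOpenEmbedding.isInducing.specializes_iff] at hs
  exact (PrimeSpectrum.le_iff_specializes q p).mpr hs

/-- At the generic point the ideal of the subscheme is the maximal ideal. -/
lemma stalkIdeal_gen : stalkIdeal 𝓓 (gen 𝓓) = IsLocalRing.maximalIdeal (X.presheaf.stalk (gen 𝓓)) := by
  obtain ⟨U, hU, -⟩ := exists_affine_le (gen 𝓓) ⊤ trivial
  letI := TopCat.Presheaf.algebra_section_stalk X.presheaf (⟨gen 𝓓, hU⟩ : U.1)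
  haveI : IsLocalization.AtPrime (X.presheaf.stalk (gen 𝓓)) (U.2.primeIdealOf ⟨gen 𝓓, hU⟩).asIdeal :=
    U.2.isLocalization_stalk ⟨gen 𝓓, hU⟩
  rw [stalkIdeal_eq _ U hU, ← primeIdealOf_gen 𝓓 U hU]
  exact IsLocalization.AtPrime.map_eq_maximalIdeal (U.2.primeIdealOf ⟨gen 𝓓, hU⟩).asIdeal (X.presheaf.stalk (gen 𝓓))

variable [IsLocallyNoetherian X]

omit [IsLocallyNoetherian X] in
lemma isPrincipal_maximalIdeal (hD : BlowUp.IsEffCartierIdeal 𝓓) :
    (IsLocalRing.maximalIdeal (X.presheaf.stalk (gen 𝓓))).IsPrincipal := by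
  obtain ⟨U, hU, f, -, he⟩ := hD (gen 𝓓)
  rw [← stalkIdeal_gen, stalkIdeal_eq _ U hU, he, Ideal.map_span, Set.image_singleton]
  exact ⟨_, rfl⟩

lemma coheight_gen_le (hD : BlowUp.IsEffCartierIdeal 𝓓) : coheight (gen 𝓓) ≤ 1 := by
  haveI := isPrincipal_maximalIdeal 𝓓 hD
  have h := (ringKrullDim_le_spanFinrank_maximalIdeal (R := X.presheaf.stalk (gen 𝓓)))
  have h1 : (IsLocalRing.maximalIdeal (X.presheaf.stalk (gen 𝓓))).spanFinrank ≤ 1 := by
    obtain ⟨g, hg⟩ := ‹(IsLocalRing.maximalIdeal (X.presheaf.stalk (gen 𝓓))).IsPrincipal›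
    rw [hg]
    exact (Submodule.spanFinrank_span_le_ncard_of_finite (Set.finite_singleton g)).trans (Set.ncard_singleton g).le
  rw [ringKrullDim_stalk_eq_coheight] at h
  exact WithBot.coe_le_coe.mp (h.trans (by exact_mod_cast h1))

omit [IsLocallyNoetherian X] [IsIntegral 𝓓.subscheme] in
/-- An effective Cartier divisor contains no maximal point. -/
lemma exists_generization (hD : BlowUp.IsEffCartierIdeal 𝓓) {x : X} (hx : x ∈ 𝓓.support) :
    ∃ y : X, y ⤳ x ∧ y ∉ 𝓓.support := by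
  obtain ⟨U, hU, f, hf, he⟩ := hD x
  obtain ⟨q, hq, hqle⟩ := Ideal.exists_minimalPrimes_le (I := (⊥ : Ideal Γ(X, U.1)))
    (J := (U.2.primeIdealOf ⟨x, hU⟩).asIdeal) bot_le
  let p : PrimeSpectrum Γ(X, U.1) := ⟨q, hq.1.1⟩
  refine ⟨U.2.fromSpec p, ?_, fun h => ?_⟩
  · have := ((PrimeSpectrum.le_iff_specializes p (U.2.primeIdealOf ⟨x, hU⟩)).mp hqle).map U.2.fromSpec.continuous
    rwa [U.2.fromSpec_primeIdealOf] at this
  · have hpU : U.2.fromSpec p ∈ U.1 := U.2.range_fromSpec.le ⟨p, rfl⟩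
    rw [Scheme.IdealSheafData.mem_support_iff_of_mem hpU, Scheme.mem_zeroLocus_iff] at h
    have h1 := h f (he ▸ Ideal.mem_span_singleton_self f)
    have h2 : f ∈ q := by
      by_contra hne
      have : p ∈ U.2.fromSpec ⁻¹ᵁ X.basicOpen f := by rw [U.2.fromSpec_preimage_basicOpen]; exact hne
      exact h1 this
    exact Set.disjoint_left.mp (Ideal.disjoint_nonZeroDivisors_of_mem_minimalPrimes hq) h2 hf

omit [IsLocallyNoetherian X] in
lemma ne_generization {y x : X} (h : y ⤳ x) (hne : y ≠ x) : x < y :=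
  lt_of_le_not_ge (Scheme.le_iff_specializes.mpr h) fun h' =>
    hne (h.antisymm (Scheme.le_iff_specializes.mp h')).eq

omit [IsLocallyNoetherian X] in
/-- A point of coheight at most one in the divisor is its generic point. -/
lemma eq_gen (hD : BlowUp.IsEffCartierIdeal 𝓓) {x : X} (hx : x ∈ 𝓓.support) (h : coheight x ≤ 1) :
    x = gen 𝓓 := by
  by_contra hne
  obtain ⟨y, hy, hyD⟩ := exists_generization 𝓓 hD (gen_mem 𝓓)
  have h1 := coheight_add_one_le (ne_generization hy (fun e => hyD (e ▸ gen_mem 𝓓)))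
  have h2 := coheight_add_one_le (ne_generization (gen_specializes 𝓓 hx) (Ne.symm hne))
  have h3 : (1 : ℕ∞) + 1 ≤ 1 :=
    le_trans (le_trans (add_le_add_left (le_trans le_add_self h1) 1) h2) h
  exact absurd h3 (by decide)

variable {𝓓}

omit [IsLocallyNoetherian X] in
/-- Containment at the generic point of an integral divisor gives containment everywhere. -/
lemma le_pow_of_stalkIdeal_le (hD : BlowUp.IsEffCartierIdeal 𝓓) (𝓩 : X.IdealSheafData) (a : ℕ)
    (h : stalkIdeal 𝓩 (gen 𝓓) ≤ stalkIdeal 𝓓 (gen 𝓓) ^ a) : 𝓩 ≤ 𝓓 ^ a := by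
  choose U hxU f hf he using fun x : X => hD x
  refine Scheme.IdealSheafData.le_of_iSup_eq_top U (top_unique fun x _ => Opens.mem_iSup.mpr ⟨x, hxU x⟩) fun x g hg => ?_
  rw [Scheme.IdealSheafData.ideal_pow, Pi.pow_apply, he x, Ideal.span_singleton_pow, Ideal.mem_span_singleton]
  by_cases hgen : gen 𝓓 ∈ (U x).1
  · rw [stalkIdeal_eq _ (U x) hgen, stalkIdeal_eq _ (U x) hgen, ← Ideal.map_pow, he x, Ideal.span_singleton_pow] at h
    letI := TopCat.Presheaf.algebra_section_stalk X.presheaf (⟨gen 𝓓, hgen⟩ : (U x).1)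
    haveI : IsLocalization.AtPrime (X.presheaf.stalk (gen 𝓓)) ((U x).2.primeIdealOf ⟨gen 𝓓, hgen⟩).asIdeal :=
      (U x).2.isLocalization_stalk ⟨gen 𝓓, hgen⟩
    obtain ⟨s, hs, hsg⟩ := (IsLocalization.algebraMap_mem_map_algebraMap_iff
      ((U x).2.primeIdealOf ⟨gen 𝓓, hgen⟩).asIdeal.primeCompl (X.presheaf.stalk (gen 𝓓)) _ g).mp
      (h (Ideal.mem_map_of_mem _ hg))
    have hs' : s ∉ Ideal.span {f x} := fun hm => hs (by rw [primeIdealOf_gen, he x]; exact hm)
    exact dvd_pow_of_mul (hf x) (he x ▸ isPrime_ideal 𝓓 (U x) hgen (gen_mem 𝓓)) hs' a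
      (Ideal.mem_span_singleton.mp hsg)
  · have htop : 𝓓.ideal (U x) = ⊤ := by
      by_contra hne
      obtain ⟨M, hM, hle⟩ := Ideal.exists_le_maximal _ hne
      let p : PrimeSpectrum Γ(X, (U x).1) := ⟨M, hM.isPrime⟩
      have hpU : (U x).2.fromSpec p ∈ (U x).1 := (U x).2.range_fromSpec.le ⟨p, rfl⟩
      have hpD : (U x).2.fromSpec p ∈ 𝓓.support := by
        rw [Scheme.IdealSheafData.mem_support_iff_of_mem hpU, Scheme.mem_zeroLocus_iff]
        intro a ha h
        have : p ∈ (U x).2.fromSpec ⁻¹ᵁ X.basicOpen a := h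
        rw [(U x).2.fromSpec_preimage_basicOpen] at this
        exact this (hle ha)
      exact hgen ((gen_specializes 𝓓 hpD).mem_open (U x).1.2 hpU)
    rw [he x, Ideal.span_singleton_eq_top] at htop
    exact (htop.pow a).dvd

omit [IsLocallyNoetherian X] in
/-- An integral divisor not contained in a Cartier divisor is coprime to it. -/
lemma le_pow_mul (hD : BlowUp.IsEffCartierIdeal 𝓓) {𝓔 : X.IdealSheafData}
    (hE : BlowUp.IsEffCartierIdeal 𝓔) (hgen : gen 𝓓 ∉ 𝓔.support) (𝓩 : X.IdealSheafData) (a : ℕ)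
    (h1 : 𝓩 ≤ 𝓓 ^ a) (h2 : 𝓩 ≤ 𝓔) : 𝓩 ≤ 𝓓 ^ a * 𝓔 := by
  have hloc : ∀ x : X, ∃ U : X.affineOpens, x ∈ U.1 ∧ ∃ f e : Γ(X, U.1), f ∈ nonZeroDivisors _ ∧
      𝓓.ideal U = Ideal.span {f} ∧ e ∈ nonZeroDivisors _ ∧ 𝓔.ideal U = Ideal.span {e} := fun x => by
    obtain ⟨U₁, hx₁, f, hf, he⟩ := hD x
    obtain ⟨U₂, hx₂, e, hfe, hee⟩ := hE x
    obtain ⟨U, hx, hle⟩ := exists_affine_le x (U₁.1 ⊓ U₂.1) ⟨hx₁, hx₂⟩
    refine ⟨U, hx, (X.presheaf.map (homOfLE (hle.trans inf_le_left)).op f),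
      (X.presheaf.map (homOfLE (hle.trans inf_le_right)).op e), ?_, ?_, ?_, ?_⟩
    · exact EffCartier.map_res_mem_nonZeroDivisors (hle.trans inf_le_left) hf
    · exact EffCartier.restrict_eq (hle.trans inf_le_left) he
    · exact EffCartier.map_res_mem_nonZeroDivisors (hle.trans inf_le_right) hfe
    · exact EffCartier.restrict_eq (hle.trans inf_le_right) hee
  choose U hxU f e hf he hfe hee using hloc
  refine Scheme.IdealSheafData.le_of_iSup_eq_top U (top_unique fun x _ => Opens.mem_iSup.mpr ⟨x, hxU x⟩) fun x g hg => ?_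
  have g1 := h1 (U x) hg
  have g2 := h2 (U x) hg
  rw [Scheme.IdealSheafData.ideal_pow, Pi.pow_apply, he x, Ideal.span_singleton_pow, Ideal.mem_span_singleton] at g1
  rw [hee x, Ideal.mem_span_singleton] at g2
  rw [Scheme.IdealSheafData.ideal_mul, Pi.mul_apply, Scheme.IdealSheafData.ideal_pow, Pi.pow_apply,
    he x, hee x, Ideal.span_singleton_pow, Ideal.span_singleton_mul_span_singleton, Ideal.mem_span_singleton]
  obtain ⟨t, rfl⟩ := g2
  by_cases hmem : gen 𝓓 ∈ (U x).1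
  · have hne : e x ∉ Ideal.span {f x} := fun hm => by
      rw [← he x, ← primeIdealOf_gen 𝓓 (U x) hmem] at hm
      refine hgen ((Scheme.IdealSheafData.mem_support_iff_of_mem hmem).mpr ?_)
      rw [Scheme.mem_zeroLocus_iff]
      intro a ha hb
      rw [hee x] at ha
      have : ((U x).2.primeIdealOf ⟨gen 𝓓, hmem⟩) ∈ (U x).2.fromSpec ⁻¹ᵁ X.basicOpen a := by
        show (U x).2.fromSpec _ ∈ X.basicOpen a
        rw [(U x).2.fromSpec_primeIdealOf]
        exact hb
      rw [(U x).2.fromSpec_preimage_basicOpen] at this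
      exact this ((Ideal.span_singleton_le_iff_mem _).mpr hm ha)
    rw [mul_comm (f x ^ a)]
    exact mul_dvd_mul_left _ (dvd_pow_of_mul (hf x) (he x ▸ isPrime_ideal 𝓓 (U x) hmem (gen_mem 𝓓)) hne a g1)
  · have htop : IsUnit (f x) := by
      rw [← Ideal.span_singleton_eq_top, ← he x]
      by_contra hne
      obtain ⟨M, hM, hle⟩ := Ideal.exists_le_maximal _ hne
      let p : PrimeSpectrum Γ(X, (U x).1) := ⟨M, hM.isPrime⟩
      have hpU : (U x).2.fromSpec p ∈ (U x).1 := (U x).2.range_fromSpec.le ⟨p, rfl⟩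
      have hpD : (U x).2.fromSpec p ∈ 𝓓.support := by
        rw [Scheme.IdealSheafData.mem_support_iff_of_mem hpU, Scheme.mem_zeroLocus_iff]
        intro a ha h
        have : p ∈ (U x).2.fromSpec ⁻¹ᵁ X.basicOpen a := h
        rw [(U x).2.fromSpec_preimage_basicOpen] at this
        exact this (hle ha)
      exact hmem ((gen_specializes 𝓓 hpD).mem_open (U x).1.2 hpU)
    exact (htop.pow a).mul_left_dvd.mpr (dvd_mul_right _ _)

omit [IsLocallyNoetherian X] in
lemma gen_not_mem_support_prod {I : Type*} (𝓔 : I → X.IdealSheafData) (n : I → ℕ) (s : Finset I) (x : X)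
    (hx : ∀ i ∈ s, x ∉ (𝓔 i).support) : stalkIdeal (∏ i ∈ s, 𝓔 i ^ n i) x = ⊤ := by
  classical
  induction s using Finset.induction_on with
  | empty => exact stalkIdeal_top x
  | insert i s hi ih =>
    rw [Finset.prod_insert hi, stalkIdeal_mul, stalkIdeal_pow, (stalkIdeal_eq_top_iff _ x).mpr (hx i (Finset.mem_insert_self i s)),
      ih fun j hj => hx j (Finset.mem_insert_of_mem hj), ← Ideal.one_eq_top, one_pow, one_mul]

/-- The divisorial part of a closed subscheme. -/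
theorem exists_prod_le [IsNoetherian X] (𝓩 : X.IdealSheafData)
    {I : Type u} (𝓓 : I → X.IdealSheafData) (hD : ∀ i, BlowUp.IsEffCartierIdeal (𝓓 i))
    (hDint : ∀ i, IsIntegral (𝓓 i).subscheme) (Z' : Set X)
    (hcodim : ∀ z ∈ Z', (∀ y ∈ Z', y ⤳ z → y = z) → (2 : WithBot ℕ∞) ≤ ringKrullDim (X.presheaf.stalk z))
    (hcover : (𝓩.support : Set X) ⊆ Z' ∪ ⋃ i, ((𝓓 i).support : Set X)) :
    ∃ a : I →₀ ℕ, 𝓩 ≤ a.prod (fun i n => 𝓓 i ^ n) ∧
      ∃ U : X.Opens, (a.prod (fun i n => 𝓓 i ^ n)).comap U.ι = 𝓩.comap U.ι ∧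
        ∀ z ∈ (𝓩.support : Set X) \ (U : Set X), (2 : WithBot ℕ∞) ≤ ringKrullDim (X.presheaf.stalk z) := by
  classical
  haveI := hDint
  -- points of coheight at most one in the support
  have hsmall : ∀ z ∈ 𝓩.support, coheight z ≤ 1 → ∃ i, z = gen (𝓓 i) := by
    intro z hz h1
    have h2 : ∀ w, coheight w ≤ 1 → ¬ (2 : WithBot ℕ∞) ≤ ringKrullDim (X.presheaf.stalk w) := fun w hw hle => by
      rw [ringKrullDim_stalk_eq_coheight] at hle
      exact absurd ((WithBot.coe_le_coe.mp hle).trans hw) (by decide)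
    rcases hcover hz with hZ | hU
    · obtain ⟨y, hy, hyz, hne⟩ : ∃ y ∈ Z', y ⤳ z ∧ y ≠ z := by
        by_contra h
        push Not at h
        exact h2 z h1 (hcodim z hZ h)
      have hy0 : coheight y + 1 ≤ 1 := (coheight_add_one_le (ne_generization hyz hne)).trans h1
      refine absurd (hcodim y hy fun w _ hw => ?_) (h2 y (le_trans le_self_add hy0))
      by_contra hwy
      exact absurd ((add_le_add_left ((le_trans le_add_self (coheight_add_one_le (ne_generization hw hwy)))) 1).trans hy0) (by decide)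
    · obtain ⟨i, hi⟩ := Set.mem_iUnion.mp hU
      exact ⟨i, eq_gen _ (hD i) hi h1⟩
  have hmax : ∀ i, gen (𝓓 i) ∈ 𝓩.support → ∀ y ∈ 𝓩.support, y ⤳ gen (𝓓 i) → y = gen (𝓓 i) := by
    intro i _ y hy hys
    by_contra hne
    have h1 := (coheight_add_one_le (ne_generization hys hne)).trans (coheight_gen_le _ (hD i))
    obtain ⟨j, rfl⟩ := hsmall y hy (le_trans le_self_add h1)
    obtain ⟨w, hw, hwD⟩ := exists_generization _ (hD j) (gen_mem (𝓓 j))
    exact absurd ((add_le_add_left (le_trans le_add_self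
      (coheight_add_one_le (ne_generization hw fun e => hwD (e ▸ gen_mem (𝓓 j))))) 1).trans h1) (by decide)
  -- finitely many generic points
  have hfin : {z : X | ∃ i, z = gen (𝓓 i) ∧ z ∈ 𝓩.support}.Finite := by
    obtain ⟨T, hTf, hTc, hTi, hT⟩ := NoetherianSpace.exists_finite_set_isClosed_irreducible (α := X) 𝓩.support.isClosed
    haveI := hTf.to_subtype
    refine (Set.finite_range fun t : T => (hTi t.1 t.2).genericPoint).subset fun z hz => ?_
    obtain ⟨i, rfl, hzs⟩ := hz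
    obtain ⟨t, ht, hzt⟩ := hT.le hzs
    refine ⟨⟨t, ht⟩, hmax i hzs _ (hT.ge ⟨t, ht, ?_⟩) ?_⟩
    · have := (hTi t ht).isGenericPoint_genericPoint (hTc t ht)
      exact this.mem
    · exact ((hTi t ht).isGenericPoint_genericPoint (hTc t ht)).specializes hzt
  -- multiplicities
  have hn : ∀ i, ∃ n : ℕ, gen (𝓓 i) ∈ 𝓩.support → stalkIdeal 𝓩 (gen (𝓓 i)) = stalkIdeal (𝓓 i) (gen (𝓓 i)) ^ n := by
    intro i
    by_cases hi : gen (𝓓 i) ∈ 𝓩.support
    · obtain ⟨n, hn⟩ := exists_eq_pow (isPrincipal_maximalIdeal _ (hD i)) (stalkIdeal 𝓩 (gen (𝓓 i))) fun h0 => by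
        obtain ⟨y, hys, hyD⟩ := exists_generization _ (hD i) (gen_mem (𝓓 i))
        refine hyD ((hmax i hi y ?_ hys) ▸ gen_mem (𝓓 i))
        obtain ⟨U, hU, -⟩ := exists_affine_le (gen (𝓓 i)) ⊤ trivial
        rw [stalkIdeal_eq _ U hU, Ideal.map_eq_bot_iff_le_ker] at h0
        by_contra hy
        rw [← stalkIdeal_eq_top_iff, stalkIdeal_eq _ U (hys.mem_open U.1.2 hU)] at hy
        refine top_ne_bot (hy.symm.trans ((Ideal.map_eq_bot_iff_le_ker _).mpr fun a ha => ?_))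
        have h1 : X.presheaf.germ U.1 (gen (𝓓 i)) hU a = 0 := h0 ha
        have h2 := congrArg (X.presheaf.stalkSpecializes hys).hom h1
        rw [map_zero, ← CommRingCat.comp_apply, TopCat.Presheaf.germ_stalkSpecializes] at h2
        exact h2
      exact ⟨n, fun _ => by rw [stalkIdeal_gen, hn]⟩
    · exact ⟨0, fun h => absurd h hi⟩
  choose n hn using hn
  choose r hr using fun z (hz : z ∈ hfin.toFinset) => (Set.Finite.mem_toFinset _).mp hz
  let s : Finset I := hfin.toFinset.attach.image fun z => r z.1 z.2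
  have hs : ∀ i ∈ s, gen (𝓓 i) ∈ 𝓩.support := fun i hi => by
    obtain ⟨z, -, rfl⟩ := Finset.mem_image.mp hi
    exact (hr z.1 z.2).1 ▸ (hr z.1 z.2).2
  have hinj : ∀ i ∈ s, ∀ j ∈ s, gen (𝓓 j) ∈ (𝓓 i).support → i = j := fun i hi j hj h => by
    obtain ⟨z, -, rfl⟩ := Finset.mem_image.mp hi
    obtain ⟨w, -, rfl⟩ := Finset.mem_image.mp hj
    have e := eq_gen _ (hD _) h (coheight_gen_le _ (hD _))
    rw [← (hr z.1 z.2).1, ← (hr w.1 w.2).1] at e
    rw [Subtype.ext e]
  let a : I →₀ ℕ := Finsupp.indicator s fun i _ => n i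
  have ha : (a.prod fun i k => 𝓓 i ^ k) = ∏ i ∈ s, 𝓓 i ^ n i := by
    rw [a.prod_of_support_subset (Finsupp.support_indicator_subset _ _) _ fun i _ => pow_zero _]
    exact Finset.prod_congr rfl fun i hi => by rw [Finsupp.indicator_of_mem hi]
  refine ⟨a, ?_, ?_⟩
  · rw [ha]
    suffices H : ∀ t ⊆ s, 𝓩 ≤ ∏ i ∈ t, 𝓓 i ^ n i ∧ BlowUp.IsEffCartierIdeal (∏ i ∈ t, 𝓓 i ^ n i) from (H s subset_rfl).1
    intro t
    induction t using Finset.induction_on with
    | empty => exact fun _ => ⟨le_top, EffCartier.top⟩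
    | insert i t hi ih =>
      intro ht
      obtain ⟨h1, h2⟩ := ih ((Finset.subset_insert i t).trans ht)
      have his := ht (Finset.mem_insert_self i t)
      rw [Finset.prod_insert hi]
      refine ⟨le_pow_mul (hD i) h2 ?_ _ _ (le_pow_of_stalkIdeal_le (hD i) _ _ (hn i (hs i his)).le) h1,
        EffCartier.mul (EffCartier.pow (hD i) _) h2⟩
      rw [← stalkIdeal_eq_top_iff]
      exact gen_not_mem_support_prod _ _ _ _ fun j hj h =>
        hi (hinj j (ht (Finset.mem_insert_of_mem hj)) i his h ▸ hj)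
  · obtain ⟨U, hU, hUmem⟩ := exists_opens_comap_eq (∏ i ∈ s, 𝓓 i ^ n i) 𝓩
    refine ⟨U, by rw [ha]; exact hU, fun z ⟨hz, hzU⟩ => ?_⟩
    by_contra hlt
    rw [ringKrullDim_stalk_eq_coheight, not_le, show (2 : WithBot ℕ∞) = ((2 : ℕ∞) : WithBot ℕ∞) from rfl,
      WithBot.coe_lt_coe] at hlt
    obtain ⟨i, rfl⟩ := hsmall z hz (ENat.lt_add_one_iff (by decide) |>.mp (show coheight _ < 1 + 1 from hlt))
    have hmem : gen (𝓓 i) ∈ hfin.toFinset := (Set.Finite.mem_toFinset _).mpr ⟨i, rfl, hz⟩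
    have hk : r _ hmem ∈ s := Finset.mem_image.mpr ⟨⟨_, hmem⟩, Finset.mem_attach _ _, rfl⟩
    refine hzU (hUmem _ ?_)
    rw [(hr _ hmem).1, ← Finset.mul_prod_erase s _ hk, stalkIdeal_mul, stalkIdeal_pow,
      gen_not_mem_support_prod _ _ _ _ (fun j hj h =>
        (Finset.mem_erase.mp hj).1 (hinj j (Finset.mem_erase.mp hj).2 _ hk h)),
      hn _ (hs _ hk), ← Ideal.one_eq_top, mul_one]

end Groth.Agent.IdealSh

end
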