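import Mathlib.RingTheory.UniqueFactorizationDomain.Basic
import Mathlib.RingTheory.Ideal.Height
import Mathlib.RingTheory.Ideal.AssociatedPrime.Basic
import Mathlib.RingTheory.Filtration
import Mathlib.RingTheory.Support

/-!
# Height one ideals without embedded primes in a factorial ring are principal
-/

set_option autoImplicit false

universe u

namespace Groth.Agent.IdealSh.UFD

variable {R : Type u} [CommRing R] [IsDomain R]

/-- A prime of height one in a factorial ring is principal. -/
lemma exists_span_of_height_one [UniqueFactorizationMonoid R] (p : Ideal R) [p.IsPrime]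
    (h : p.height = 1) : ∃ π : R, p = Ideal.span {π} := by
  have hne : p ≠ ⊥ := by
    rintro rfl
    rw [Ideal.height_bot] at h
    exact zero_ne_one h
  obtain ⟨π, hπp, hπ⟩ := Ideal.IsPrime.exists_mem_prime_of_ne_bot ‹_› hne
  refine ⟨π, ?_⟩
  have hle : Ideal.span {π} ≤ p := (Ideal.span_singleton_le_iff_mem _).mpr hπp
  by_contra hne'
  have hlt : Ideal.span {π} < p := lt_of_le_of_ne hle (Ne.symm hne')
  have : (Ideal.span {π}).IsPrime := (Ideal.span_singleton_prime hπ.ne_zero).mpr hπ
  have : (Ideal.span {π}).FiniteHeight :=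
    ⟨Or.inr (ne_top_of_le_ne_top (by rw [h]; exact ENat.one_ne_top) (Ideal.height_mono hle))⟩
  have h1 := Ideal.height_strict_mono_of_isPrime hlt
  rw [h, Order.lt_one_iff, Ideal.height_eq_zero_iff_eq_bot, Ideal.span_singleton_eq_bot] at h1
  exact hπ.ne_zero h1

/-- An ideal all of whose associated primes are principal is principal. -/
lemma exists_span_of_assPrimes [IsNoetherianRing R] (I : Ideal R)
    (h : ∀ p ∈ associatedPrimes R (R ⧸ I), ∃ π : R, p = Ideal.span {π}) :
    ∃ f : R, I = Ideal.span {f} := by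
  by_cases hI0 : I = ⊥
  · exact ⟨0, by simp [hI0]⟩
  let S : Set (Ideal R) := {J | ∃ g : R, I = Ideal.span {g} * J}
  obtain ⟨J, ⟨g, hg⟩, hmax⟩ : ∃ J : Ideal R, J ∈ S ∧ ∀ K ∈ S, ¬ J < K :=
    set_has_maximal_iff_noetherian.mpr (inferInstance : IsNoetherianRing R) S ⟨I, 1, by simp⟩
  by_cases hJ : J = ⊤
  · exact ⟨g, by rw [hg, hJ, Ideal.mul_top]⟩
  exfalso
  have hg0 : g ≠ 0 := by
    rintro rfl
    exact hI0 (by rw [hg]; simp)
  -- `R/J` embeds into `R/I`
  let μ : (R ⧸ J) →ₗ[R] (R ⧸ I) := J.mapQ I (LinearMap.mulLeft R g) fun z hz => by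
    simp only [Submodule.mem_comap, LinearMap.mulLeft_apply, hg, Ideal.mem_span_singleton_mul]
    exact ⟨z, hz, rfl⟩
  have hμ : Function.Injective μ := by
    rw [← LinearMap.ker_eq_bot, Submodule.ker_mapQ, Submodule.eq_bot_iff]
    rintro _ ⟨z, hz, rfl⟩
    rw [SetLike.mem_coe, Submodule.mem_comap, LinearMap.mulLeft_apply, hg,
      Ideal.mem_span_singleton_mul] at hz
    obtain ⟨w, hw, hw'⟩ := hz
    rw [mul_left_cancel₀ hg0 hw'] at hw
    exact (Submodule.Quotient.mk_eq_zero J).mpr hw
  have : Nontrivial (R ⧸ J) := Ideal.Quotient.nontrivial_iff.mpr hJ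
  obtain ⟨p, hp⟩ := associatedPrimes.nonempty R (R ⧸ J)
  obtain ⟨π, hπ⟩ := h p (associatedPrimes.subset_of_injective hμ hp)
  have hJp : J ≤ Ideal.span {π} := by
    have := hp.annihilator_le
    rwa [Submodule.annihilator_top, Ideal.annihilator_quotient, hπ] at this
  let J' : Ideal R := J.colon {π}
  have hJeq : J = Ideal.span {π} * J' := by
    refine le_antisymm (fun z hz => ?_) ?_
    · obtain ⟨w, rfl⟩ := Ideal.mem_span_singleton.mp (hJp hz)
      exact Ideal.mem_span_singleton_mul.mpr
        ⟨w, Submodule.mem_colon_singleton.mpr (by simpa [smul_eq_mul, mul_comm] using hz), rfl⟩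
    · rintro z hz
      obtain ⟨w, hw, rfl⟩ := Ideal.mem_span_singleton_mul.mp hz
      have := Submodule.mem_colon_singleton.mp hw
      rwa [smul_eq_mul, mul_comm] at this
  have hJJ' : J ≤ J' := fun z hz => Submodule.mem_colon_singleton.mpr (Ideal.mul_mem_right π J hz)
  have hJ'S : J' ∈ S := ⟨g * π, by
    rw [hg, ← Ideal.span_singleton_mul_span_singleton, mul_assoc, ← hJeq]⟩
  have heq : J' = J := (eq_of_le_of_not_lt hJJ' (hmax J' hJ'S)).symm
  have hne : Ideal.span {π} ≠ ⊤ := by
    rw [← hπ]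
    exact hp.1.ne_top
  refine hI0 ?_
  have hJbot : J = ⊥ := by
    rw [eq_bot_iff, ← Ideal.iInf_pow_eq_bot_of_isDomain _ hne]
    refine le_iInf fun n => ?_
    induction n with
    | zero => simp
    | succ n ih =>
      rw [pow_succ', hJeq, heq]
      exact Ideal.mul_mono_right ih
  rw [hg, hJbot, Ideal.mul_bot]

end Groth.Agent.IdealSh.UFD
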